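import Cfsg.Agent.Lib.InvChar.SuzY.Words
import Cfsg.Agent.Lib.InvChar.SuzType.Involutions
import Cfsg.Agent.Lib.Coprime.Complements
import Mathlib.GroupTheory.Sylow

/-!
Elements of order three inducing given rotations on the coordinates of a group of Suzuki type: conjugacy and
lifting of maps of words.
-/

set_option autoImplicit false
set_option linter.unusedSectionVars false

namespace CfsgLib.InvChar.SuzY

open Subgroup CfsgLib.InvChar.SuzType

variable {G : Type*} [Group G]

theorem cube_conj {x g : G} (hx : x * x * x = 1) :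
    g * x * g⁻¹ * (g * x * g⁻¹) * (g * x * g⁻¹) = 1 := by
  calc g * x * g⁻¹ * (g * x * g⁻¹) * (g * x * g⁻¹) = g * (x * x * x) * g⁻¹ := by group
    _ = 1 := by rw [hx]; group

theorem orderOf_three {x : G} (hx : x * x * x = 1) (h1 : x ≠ 1) : orderOf x = 3 :=
  haveI := Fact.mk Nat.prime_three
  orderOf_eq_prime (by rw [pow_succ, pow_two]; exact hx) h1

theorem mem_zpowers_three {x g : G} (hx : x * x * x = 1) (hg : g ∈ zpowers x) :
    g = 1 ∨ g = x ∨ g = x * x := by
  obtain ⟨k, rfl⟩ := hg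
  have h3 : x ^ (3 : ℤ) = 1 := by rw [zpow_ofNat, pow_succ, pow_two, hx]
  have hk : x ^ k = x ^ (k % 3) := by
    conv_lhs => rw [← Int.emod_add_mul_ediv k 3, zpow_add, zpow_mul, h3, one_zpow, mul_one]
  have h1 := Int.emod_nonneg k (by norm_num : (3 : ℤ) ≠ 0)
  have h2 := Int.emod_lt_of_pos k (by norm_num : (0 : ℤ) < 3)
  show x ^ k = 1 ∨ x ^ k = x ∨ x ^ k = x * x
  rcases (by omega : k % 3 = 0 ∨ k % 3 = 1 ∨ k % 3 = 2) with e | e | e <;> rw [hk, e]
  · exact Or.inl (zpow_zero x)
  · exact Or.inr (Or.inl (zpow_one x))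
  · exact Or.inr (Or.inr (zpow_two x))

/-- Two elements of order three in one coset of a normalised 2-subgroup are conjugate under it. -/
theorem coset_conj [Finite G] {R : Subgroup G} (hR : IsPGroup 2 ↥R) {x y : G} (hy : y * y * y = 1)
    (hyn : y ∈ normalizer (R : Set G)) (hx : x * x * x = 1) (hmem : y⁻¹ * x ∈ R) :
    ∃ q ∈ R, q * x * q⁻¹ = y := by
  obtain ⟨k, hk⟩ := IsPGroup.iff_card.1 hR
  have hcop : ∀ {g : G}, g * g * g = 1 → (Nat.card ↥(zpowers g)).Coprime (Nat.card ↥R) := fun {g} hg => by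
    rw [Nat.card_zpowers, hk]
    refine Nat.Coprime.pow_right _ ((Nat.Coprime.coprime_dvd_left ?_) (by norm_num : Nat.Coprime 3 2))
    exact orderOf_dvd_of_pow_eq_one (by rw [pow_succ, pow_two]; exact hg)
  have hxn : x ∈ normalizer (R : Set G) := by
    have := mul_mem hyn (le_normalizer hmem)
    rwa [mul_inv_cancel_left] at this
  have hsup : R ⊔ zpowers y = R ⊔ zpowers x := by
    refine le_antisymm (sup_le le_sup_left ?_) (sup_le le_sup_left ?_) <;> rw [zpowers_le]
    · have := mul_mem (mem_sup_right (S := R) (mem_zpowers x))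
        (mem_sup_left (T := zpowers x) (inv_mem hmem))
      rwa [show x * (y⁻¹ * x)⁻¹ = y by group] at this
    · have := mul_mem (mem_sup_right (S := R) (mem_zpowers y)) (mem_sup_left (T := zpowers y) hmem)
      rwa [mul_inv_cancel_left] at this
  obtain ⟨n, hn, he⟩ := Coprime.exists_conj_eq_of_coprime (zpowers_le.2 hyn) (zpowers_le.2 hxn) hsup
    (hcop hy) (hcop hx) (Or.inr (by
      haveI := Fact.mk Nat.prime_two
      haveI := hR.isNilpotent
      infer_instance))
  have hx' : x ∈ (zpowers y).map (MulAut.conj n).toMonoidHom := he ▸ mem_zpowers x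
  obtain ⟨w, hw, hwx⟩ := hx'
  simp only [MulEquiv.coe_toMonoidHom, MulAut.conj_apply] at hwx
  have key : ∀ g : G, g * g * g = 1 → g ∈ R → g = 1 := fun g hg hgR => by
    have h1 := Nat.eq_one_of_dvd_coprimes (hcop hg)
      (dvd_refl (Nat.card ↥(zpowers g))) (card_dvd_of_le (zpowers_le.2 hgR))
    rw [Nat.card_zpowers] at h1
    exact orderOf_eq_one_iff.1 h1
  -- `y` and the conjugated power agree modulo `R`
  have hwy : y⁻¹ * w ∈ R := by
    have h1 : w⁻¹ * n⁻¹ * w ∈ R := by
      have := (mem_normalizer_iff''.1 (zpowers_le.2 hyn hw) n⁻¹).1 (inv_mem hn)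
      exact this
    have e : y⁻¹ * w = (y⁻¹ * x) * (n * (w⁻¹ * n⁻¹ * w)) := by rw [← hwx]; group
    rw [e]
    exact mul_mem hmem (mul_mem hn h1)
  have hweq : w = y := by
    rcases mem_zpowers_three hy hw with rfl | rfl | rfl
    · have := key y hy (by simpa using inv_mem hwy)
      rw [this]
    · rfl
    · have h1 := key y hy (by rwa [inv_mul_cancel_left] at hwy)
      rw [h1, one_mul]
  refine ⟨n⁻¹, inv_mem hn, ?_⟩
  rw [← hwx, hweq]; group

variable [Finite G] {z : G} {Q : Subgroup G} {φ : G → V}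

/-- `y` is an element of order dividing three inducing the map of the word `w`. -/
structure Rot (z : G) (Q : Subgroup G) (φ : G → V) (w : List (ℕ × ℕ)) (y : G) : Prop where
  comm : y * z = z * y
  cube : y * y * y = 1
  act_eq : ∀ x, act Q φ y x = wfun w x

theorem Rot.mono {w w' : List (ℕ × ℕ)} {y : G} (h : Rot z Q φ w y) (e : SameMap w w') : Rot z Q φ w' y :=
  ⟨h.comm, h.cube, fun x => (h.act_eq x).trans (e.apply x)⟩

variable (S : Data z Q φ)
include S

theorem isPGroup_Q : IsPGroup 2 ↥Q := IsPGroup.of_card (n := 7) (by rw [S.card_Q]; norm_num)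

theorem Rot.mem_normalizer {w : List (ℕ × ℕ)} {y : G} (h : Rot z Q φ w y) : y ∈ normalizer (Q : Set G) :=
  S.pack.norm (mem_centralizer_singleton_iff.2 h.comm)

theorem Rot.mul {w w' : List (ℕ × ℕ)} {y y' : G} (h : Rot z Q φ w y) (h' : Rot z Q φ w' y')
    (hc : y * y' = y' * y) : Rot z Q φ (w ++ w') (y * y') where
  comm := mul_comm_z h.comm h'.comm
  cube := by
    have hc' : Commute y y' := hc
    rw [show y * y' * (y * y') * (y * y') = (y * y') ^ 3 by rw [pow_succ, pow_two], hc'.mul_pow,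
      pow_succ, pow_two, pow_succ, pow_two, h.cube, h'.cube, one_mul]
  act_eq x := by rw [S.act_mul h.comm h'.comm, h'.act_eq, h.act_eq, wfun_append]

theorem Rot.conj {w w' p : List (ℕ × ℕ)} {y h : G} (hy : Rot z Q φ w y) (hh : h * z = z * h)
    (hact : ∀ x, act Q φ h x = wfun p x) (e : SameMap (p ++ w) (w' ++ p)) :
    Rot z Q φ w' (h * y * h⁻¹) where
  comm := mul_comm_z (mul_comm_z hh hy.comm) (inv_comm_z hh)
  cube := cube_conj hy.cube
  act_eq x := by
    rw [S.act_mul (mul_comm_z hh hy.comm) (inv_comm_z hh), S.act_mul hh hy.comm, hy.act_eq, hact]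
    have e' := e.apply (act Q φ h⁻¹ x)
    rw [wfun_append, wfun_append] at e'
    rw [e', ← hact, S.act_inv_right hh]

theorem Rot.diff {w : List (ℕ × ℕ)} {x y : G} (hx : Rot z Q φ w x) (hy : Rot z Q φ w y) : y⁻¹ * x ∈ Q :=
  S.mem_of_act_id (mul_comm_z (inv_comm_z hy.comm) hx.comm) fun v => by
    rw [S.act_mul (inv_comm_z hy.comm) hx.comm, hx.act_eq, ← hy.act_eq, S.act_inv_left hy.comm]

theorem Rot.exists_conj {w : List (ℕ × ℕ)} {x y : G} (hx : Rot z Q φ w x) (hy : Rot z Q φ w y) :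
    ∃ q ∈ Q, q * x * q⁻¹ = y :=
  coset_conj (isPGroup_Q S) hy.cube (hy.mem_normalizer S) hx.cube (hx.diff S hy)

/-- Conjugacy fixing a commuting element. -/
theorem Rot.exists_conj_fix {w v : List (ℕ × ℕ)} {x y c : G} (hx : Rot z Q φ w x) (hy : Rot z Q φ w y)
    (hc : Rot z Q φ v c) (hxc : x * c = c * x) (hyc : y * c = c * y) :
    ∃ q ∈ Q, q * c = c * q ∧ q * x * q⁻¹ = y := by
  have hyn : y ∈ normalizer ((Q ⊓ centralizer ({c} : Set G) : Subgroup G) : Set G) := by
    rw [mem_normalizer_iff]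
    intro q
    have hcy : y ∈ centralizer ({c} : Set G) := mem_centralizer_singleton_iff.2 hyc
    simp only [Subgroup.mem_inf]
    refine and_congr (mem_normalizer_iff.1 (hy.mem_normalizer S) q) ⟨fun h => ?_, fun h => ?_⟩
    · exact mul_mem (mul_mem hcy h) (inv_mem hcy)
    · have := mul_mem (mul_mem (inv_mem hcy) h) hcy
      rwa [show y⁻¹ * (y * q * y⁻¹) * y = q by group] at this
  obtain ⟨q, hq, e⟩ := coset_conj ((isPGroup_Q S).to_le inf_le_left) hy.cube hyn hx.cube
    ⟨hx.diff S hy, mem_centralizer_singleton_iff.2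
      (Commute.mul_left (Commute.inv_left (show Commute y c from hyc)) hxc).eq⟩
  exact ⟨q, hq.1, mem_centralizer_singleton_iff.1 hq.2, e⟩

theorem act_mul_left {q h : G} (hq : q ∈ Q) (hh : h * z = z * h) (x : V) :
    act Q φ (q * h) x = act Q φ h x := by
  rw [S.act_mul (S.commQ hq) hh, S.act_of_mem hq]

/-- A map of a word carrying one rotation to another lifts to an element carrying the elements. -/
theorem exists_lift {p w w' : List (ℕ × ℕ)} (hp : GoodWord p) (e : SameMap (p ++ w) (w' ++ p)) {y y' : G}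
    (hy : Rot z Q φ w y) (hy' : Rot z Q φ w' y') :
    ∃ h : G, h * z = z * h ∧ (∀ x, act Q φ h x = wfun p x) ∧ h * y * h⁻¹ = y' := by
  obtain ⟨h, hh, hact⟩ := S.exists_word p hp
  obtain ⟨q, hq, he⟩ := (hy.conj S hh hact e).exists_conj S hy'
  exact ⟨q * h, mul_comm_z (S.commQ hq) hh, fun x => by rw [act_mul_left S hq hh, hact],
    by rw [← he]; group⟩

/-- The same for two commuting pairs. -/
theorem exists_lift₂ {p w w' v v' : List (ℕ × ℕ)} (hp : GoodWord p) (e : SameMap (p ++ w) (w' ++ p))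
    (e' : SameMap (p ++ v) (v' ++ p)) {y y' c c' : G} (hy : Rot z Q φ w y) (hy' : Rot z Q φ w' y')
    (hc : Rot z Q φ v c) (hc' : Rot z Q φ v' c') (hyc : y * c = c * y) (hyc' : y' * c' = c' * y') :
    ∃ h : G, h * z = z * h ∧ (∀ x, act Q φ h x = wfun p x) ∧ h * y * h⁻¹ = y' ∧ h * c * h⁻¹ = c' := by
  obtain ⟨h, hh, hact, he⟩ := exists_lift S hp e hy hy'
  have hcomm : h * c * h⁻¹ * y' = y' * (h * c * h⁻¹) := by
    rw [← he, show h * c * h⁻¹ * (h * y * h⁻¹) = h * (c * y) * h⁻¹ by group, ← hyc]; group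
  obtain ⟨q, hq, hqy, heq⟩ := (hc.conj S hh hact e').exists_conj_fix S hc' hy' hcomm hyc'.symm
  refine ⟨q * h, mul_comm_z (S.commQ hq) hh, fun x => by rw [act_mul_left S hq hh, hact], ?_, ?_⟩
  · rw [show q * h * y * (q * h)⁻¹ = q * (h * y * h⁻¹) * q⁻¹ by group, he, hqy, mul_inv_cancel_right]
  · rw [← heq]; group

/-- The fourth power of an element inducing the map of a word of order three. -/
theorem rot_pow_four {w : List (ℕ × ℕ)} (h3 : SameMap (w ++ w ++ w) []) {h : G} (hh : h * z = z * h)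
    (hact : ∀ x, act Q φ h x = wfun w x) : Rot z Q φ w (h * h * h * h) := by
  have h2 : h * h * z = z * (h * h) := mul_comm_z hh hh
  have h3' : h * h * h * z = z * (h * h * h) := mul_comm_z h2 hh
  have hQ : h * h * h ∈ Q := S.mem_of_act_id h3' fun x => by
    rw [S.act_mul h2 hh, S.act_mul hh hh, hact, hact, hact, ← wfun_append, ← wfun_append, h3.apply x]
    rfl
  have h4 : (h * h * h) ^ 4 = 1 := by
    rw [show (h * h * h) ^ 4 = h * h * h * (h * h * h) * (h * h * h * (h * h * h)) by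
      simp [pow_succ, mul_assoc]]
    rw [S.hsq _ hQ]
    unfold zp; split_ifs <;> simp [S.zz]
  refine ⟨mul_comm_z h3' hh, ?_, fun x => ?_⟩
  · rw [← h4]; simp [pow_succ, mul_assoc]
  · rw [S.act_mul h3' hh, S.act_of_mem hQ, hact]

/-- An element of order three inducing the map of a word of order three. -/
theorem exists_rot {w : List (ℕ × ℕ)} (hw : GoodWord w) (h3 : SameMap (w ++ w ++ w) []) :
    ∃ y : G, Rot z Q φ w y := by
  obtain ⟨h, hh, hact⟩ := S.exists_word w hw
  exact ⟨_, rot_pow_four S h3 hh hact⟩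

end CfsgLib.InvChar.SuzY
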