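import Cfsg.Agent.Lib.InvChar.SuzY.Quot
import Cfsg.Agent.Lib.U43.RootThree
import Cfsg.Agent.Lib.InvChar.SuzType.Setup
import Cfsg.Agent.Lib.Invol.Simple
import Cfsg.Prelude.Def_CaseTheorems

/-!
In a group of Suzuki type the centraliser of an element `y` of order three of `C(z)` whose commutator subgroup
with `Q` is a quaternion group is quasisimple with quotient by `⟨y⟩` isomorphic to `PSU₄(3)`; it has index two in
the normaliser.
-/

set_option autoImplicit false
set_option linter.unusedSectionVars false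
set_option linter.style.haveILetI false
set_option synthInstance.maxSize 4096
set_option synthInstance.maxHeartbeats 200000

namespace CfsgLib.InvChar.SuzY

open Subgroup CfsgLib.InvChar.SuzType
open scoped commutatorElement

variable {G : Type*} [Group G] [Finite G] {z : G} {Q : Subgroup G} {φ : G → V}

theorem inv_two : ∃ p ∈ stabWords, SameMap (p ++ r2) (r2 ++ r2 ++ p) := by decide +kernel

theorem code12_facts : qf (code 12) = 1 ∧ InP3 (code 12) := by decide +kernel

namespace Std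

variable {y y2 y3 : G} (T : Std z Q φ y y2 y3)
include T

theorem y_ne_one : y ≠ 1 := fun e => by
  have := T.h1.act_eq v0
  rw [e, T.S.act_of_mem Q.one_mem, rot_v0.1] at this
  exact absurd this (by decide +kernel)

theorem z_mem : z ∈ centralizer ({y} : Set G) := mem_centralizer_singleton_iff.2 T.h1.comm.symm

/-- The quotient is simple, non-abelian and isomorphic to `PSU₄(3)`. -/
theorem simple_quot (hfus : ∃ g : G, g * z * g⁻¹ ∈ Q ∧ g * z * g⁻¹ ≠ z) :
    IsSimpleGroup (↥(centralizer ({y} : Set G)) ⧸ (zpowers y).subgroupOf (centralizer ({y} : Set G))) ∧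
      ¬ IsMulCommutative (↥(centralizer ({y} : Set G)) ⧸ (zpowers y).subgroupOf (centralizer ({y} : Set G))) ∧
      ∀ (K : Type) [Field K] [Fintype K], Fintype.card K = 9 →
        Nonempty (↥(centralizer ({y} : Set G)) ⧸ (zpowers y).subgroupOf (centralizer ({y} : Set G)) ≃*
          Cfsg.PSU 4 K 3) := by
  obtain ⟨f, hR, hzX, hcard, hF⟩ := T.exists_rels hfus T.z_mem
  obtain ⟨e⟩ := U43.nonempty_equiv_GP hzX hcard hF hR
  haveI := U43.model_facts.2.1
  refine ⟨e.isSimpleGroup_congr.2 inferInstance, fun hc => ?_,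
    fun K _ _ hK => U43.nonempty_equiv_psu hzX hcard hF hR K hK⟩
  have hcen : centralizer ({QuotientGroup.mk' ((zpowers y).subgroupOf (centralizer ({y} : Set G)))
      ⟨z, T.z_mem⟩} : Set _) = ⊤ := eq_top_iff.2 fun x _ => mem_centralizer_singleton_iff.2 (hc.is_comm.comm x _)
  rw [hcen, Nat.card_congr Subgroup.topEquiv.toEquiv, Nat.card_congr e.toEquiv, U43.model_facts.1] at hcard
  omega

/-- `y` is in the derived subgroup of its centraliser. -/
theorem mem_derived (hfus : ∃ g : G, g * z * g⁻¹ ∈ Q ∧ g * z * g⁻¹ ≠ z) :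
    y ∈ ⁅centralizer ({y} : Set G), centralizer ({y} : Set G)⁆ := by
  by_contra hy
  set C := centralizer ({y} : Set G) with hC
  set D := ⁅C, C⁆ with hD
  have hy2 : y * y ∉ D := fun h => hy (by
    have := mul_mem h h
    rwa [show y * y * (y * y) = y * y * y * y by group, T.h1.cube, one_mul] at this)
  have hint : ∀ g ∈ zpowers y, g ∈ D → g = 1 := by
    intro g hg hgD
    rcases mem_zpowers_three T.h1.cube hg with h | h | h <;> rw [h] at hgD ⊢
    · exact absurd hgD hy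
    · exact absurd hgD hy2
  -- `y2` is a commutator
  obtain ⟨p, hp, hpr⟩ := inv_two
  obtain ⟨h, hh, -, hhy, hhy2⟩ := exists_lift₂ T.S (good_stab p hp) (stab_comm p hp).symm hpr T.h1 T.h1 T.h2
    (T.h2.mul T.S T.h2 rfl) T.c12
    (((show Commute y y2 from T.c12).mul_right (show Commute y y2 from T.c12))).eq
  have hy2C : y2 ∈ C := mem_centralizer_singleton_iff.2 T.c12.symm
  have hhC : h ∈ C := mem_centralizer_singleton_iff.2 (mul_inv_eq_iff_eq_mul.1 hhy)
  have hy2D : y2 ∈ D := by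
    have := commutator_mem_commutator (H₁ := C) (H₂ := C) hhC hy2C
    rwa [commutatorElement_def, hhy2, mul_inv_cancel_right] at this
  -- the centraliser of both
  set C₂ := C ⊓ centralizer ({y2} : Set G) with hC₂
  set D₂ := ⁅C₂, C₂⁆ with hD₂
  have hD₂D : D₂ ≤ D := commutator_mono inf_le_left inf_le_left
  have hy2D₂ : y2 ∈ D₂ := by
    obtain ⟨f, hR, hzX, hcard, hF⟩ := T.exists_rels hfus T.z_mem
    let π := QuotientGroup.mk' ((zpowers y).subgroupOf C)
    have hπ : ∀ a b : ↥C, π a = π b → ∃ g ∈ zpowers y, (b : G) = a * g := fun a b e =>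
      ⟨(a : G)⁻¹ * b, mem_subgroupOf.1 (QuotientGroup.eq.1 e), (mul_inv_cancel_left _ _).symm⟩
    obtain ⟨a, ha, ea⟩ := T.S.hsurj (code 12)
    have haQ3 : a ∈ T.Q3 := ⟨ha, ea ▸ code12_facts.2⟩
    have haC : a ∈ C := mem_centralizer_singleton_iff.2 (T.mem_W.1 (T.Q3_le haQ3)).2.symm
    have hw : orderOf (π ⟨y2, hy2C⟩) = 3 := by
      refine orderOf_three (by rw [← map_mul, ← map_mul, show (⟨y2, hy2C⟩ * ⟨y2, hy2C⟩ * ⟨y2, hy2C⟩ : ↥C) = 1
        from Subtype.ext T.h2.cube, map_one]) fun e => ?_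
      have e' : y2 ∈ zpowers y := mem_subgroupOf.1 ((QuotientGroup.eq_one_iff _).1 e)
      have e1 := hint y2 e' hy2D
      exact (rot_not_mem T.S T.h2 rot2_sq.1).1 e1
    have key := U43.RootThree.mem_commutator_centralizer hR hzX hcard hF hw
      (a := π ⟨a, haC⟩) (by rw [← map_mul, ← map_mul]; exact congrArg π (Subtype.ext T.h2.comm))
      (by rw [← map_mul, ← map_mul]; exact congrArg π (Subtype.ext (T.S.commQ ha)))
      (by rw [← map_mul, ← map_mul]; exact congrArg π (Subtype.ext (T.y2_comm haQ3).symm))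
      (by rw [← map_mul]; exact congrArg π (Subtype.ext (show a * a = z by
        rw [T.S.hsq a ha, ea, code12_facts.1, zp_one])))
    have hcent : centralizer ({π ⟨y2, hy2C⟩} : Set _) ≤ (C₂.subgroupOf C).map π := by
      intro x hx
      obtain ⟨k, rfl⟩ := QuotientGroup.mk'_surjective _ x
      have e : π ⟨y2, hy2C⟩ = π (k * ⟨y2, hy2C⟩ * k⁻¹) := by
        rw [map_mul, map_mul, map_inv, eq_mul_inv_iff_mul_eq]
        exact (mem_centralizer_singleton_iff.1 hx).symm
      obtain ⟨g, hg, e'⟩ := hπ _ _ e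
      have e'' : (k : G) * y2 * (k : G)⁻¹ = y2 * g := e'
      have hnorm : (k : G) * y2 * (k : G)⁻¹ ∈ D := by
        have h1 := mem_map_of_mem (MulAut.conj (k : G)).toMonoidHom hy2D
        rw [hD, Subgroup.map_commutator] at h1
        refine commutator_mono ?_ ?_ h1 <;>
          exact fun _ ⟨c, hc, ec⟩ => ec ▸ mul_mem (mul_mem k.2 hc) (inv_mem k.2)
      have hgD : g ∈ D := by
        have := mul_mem (inv_mem hy2D) hnorm
        rwa [e'', inv_mul_cancel_left] at this
      rw [hint g hg hgD, mul_one, mul_inv_eq_iff_eq_mul] at e''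
      exact ⟨k, mem_subgroupOf.2 ⟨k.2, mem_centralizer_singleton_iff.2 e''⟩, rfl⟩
    have h2 := commutator_mono hcent hcent key
    rw [← Subgroup.map_commutator] at h2
    obtain ⟨d, hd, hde⟩ := h2
    have hdD₂ : (d : G) ∈ D₂ := by
      have h1 := mem_map_of_mem C.subtype hd
      rw [Subgroup.map_commutator, subgroupOf_map_subtype, inf_eq_left.2 inf_le_left] at h1
      exact h1
    obtain ⟨g, hg, e'⟩ := hπ d ⟨y2, hy2C⟩ hde
    have e'' : y2 = (d : G) * g := e'
    have hgD : g ∈ D := by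
      have := mul_mem (inv_mem (hD₂D hdD₂)) hy2D
      rwa [e'', inv_mul_cancel_left] at this
    rw [hint g hg hgD, mul_one] at e''
    rw [e'']; exact hdD₂
  -- exchanging the two rotations
  obtain ⟨s, -, -, hs1, hs2⟩ := exists_lift₂ T.S good_rot.2.2.2.2 swap_rot.1 swap_rot.2 T.h1 T.h2 T.h2 T.h1
    T.c12 T.c12.symm
  have hmap : C₂.map (MulAut.conj s).toMonoidHom ≤ C₂ := by
    rintro _ ⟨c, ⟨hc1, hc2⟩, rfl⟩
    have h1 : c * y = y * c := mem_centralizer_singleton_iff.1 hc1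
    have h2 : c * y2 = y2 * c := mem_centralizer_singleton_iff.1 hc2
    refine ⟨mem_centralizer_singleton_iff.2 ?_, mem_centralizer_singleton_iff.2 ?_⟩
    · show s * c * s⁻¹ * y = y * (s * c * s⁻¹)
      rw [← hs2, show s * c * s⁻¹ * (s * y2 * s⁻¹) = s * (c * y2) * s⁻¹ by group, h2]; group
    · show s * c * s⁻¹ * y2 = y2 * (s * c * s⁻¹)
      rw [← hs1, show s * c * s⁻¹ * (s * y * s⁻¹) = s * (c * y) * s⁻¹ by group, h1]; group
  have hyD₂ : y ∈ D₂ := by
    have h1 := mem_map_of_mem (MulAut.conj s).toMonoidHom hy2D₂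
    rw [hD₂, Subgroup.map_commutator] at h1
    have h2 := commutator_mono hmap hmap h1
    rwa [MulEquiv.coe_toMonoidHom, MulAut.conj_apply, hs2] at h2
  exact hy (hD₂D hyD₂)

theorem quasisimple (hfus : ∃ g : G, g * z * g⁻¹ ∈ Q ∧ g * z * g⁻¹ ≠ z) :
    Cfsg.IsQuasisimple ↥(centralizer ({y} : Set G)) := by
  obtain ⟨hs, hna, -⟩ := T.simple_quot hfus
  set C := centralizer ({y} : Set G) with hC
  set N := (zpowers y).subgroupOf C with hN
  haveI := hs
  have hperf : commutator ↥C = ⊤ := by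
    have h1 : (commutator ↥C).map (QuotientGroup.mk' N) = ⊤ := by
      rw [commutator_def, Subgroup.map_commutator,
        Subgroup.map_top_of_surjective _ (QuotientGroup.mk'_surjective N), ← commutator_def,
        Invol.commutator_eq_top_of_simple hna]
    have h2 : N ≤ commutator ↥C := by
      intro g hg
      have hyd : (⟨y, mem_centralizer_singleton_iff.2 rfl⟩ : ↥C) ∈ commutator ↥C := by
        have h := T.mem_derived hfus
        rw [← hC, show ⁅C, C⁆ = (commutator ↥C).map C.subtype by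
          rw [commutator_def, Subgroup.map_commutator, ← MonoidHom.range_eq_map, C.range_subtype]] at h
        obtain ⟨d, hd, e⟩ := h
        rwa [show (⟨y, mem_centralizer_singleton_iff.2 rfl⟩ : ↥C) = d from Subtype.ext e.symm]
      obtain ⟨k, hk⟩ := mem_subgroupOf.1 hg
      rw [show g = (⟨y, mem_centralizer_singleton_iff.2 rfl⟩ : ↥C) ^ k from Subtype.ext hk.symm]
      exact zpow_mem hyd k
    have h3 := congrArg (Subgroup.comap (QuotientGroup.mk' N)) h1
    rwa [comap_map_eq_self (by rwa [QuotientGroup.ker_mk']), comap_top] at h3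
  have hcen : center ↥C = N := by
    refine le_antisymm (fun g hg => ?_) fun g hg => Subgroup.mem_center_iff.2 fun x => Subtype.ext ?_
    · rw [← QuotientGroup.eq_one_iff]
      by_contra hne
      rcases (inferInstance : (center (↥C ⧸ N)).Normal).eq_bot_or_eq_top with e | e
      · have : (g : ↥C ⧸ N) ∈ center (↥C ⧸ N) := Subgroup.mem_center_iff.2 fun x => by
          obtain ⟨x, rfl⟩ := QuotientGroup.mk'_surjective N x
          rw [QuotientGroup.mk'_apply, ← QuotientGroup.mk_mul, ← QuotientGroup.mk_mul,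
            Subgroup.mem_center_iff.1 hg x]
        rw [e, mem_bot] at this
        exact hne this
      · exact hna ⟨⟨fun a b => Subgroup.mem_center_iff.1 (e ▸ mem_top b) a⟩⟩
    · obtain ⟨k, hk⟩ := mem_subgroupOf.1 hg
      have hxy : Commute (x : G) y := mem_centralizer_singleton_iff.1 x.2
      show (x : G) * (g : G) = (g : G) * x
      rw [← hk]
      exact (hxy.zpow_right k).eq
  refine ⟨⟨hperf⟩, ?_⟩
  exact (QuotientGroup.quotientMulEquivOfEq hcen).isSimpleGroup_congr.2 hs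

theorem relIndex_normalizer :
    (centralizer ({y} : Set G)).relIndex (normalizer ((zpowers y : Subgroup G) : Set G)) = 2 := by
  obtain ⟨t, htz, -, ht⟩ := exists_lift T.S good_rot.2.2.2.1 inv_rot.1 T.h1 (T.h1.mul T.S T.h1 rfl)
  have hyy : y * y ≠ y := fun e => T.y_ne_one (mul_eq_left.1 e)
  have htN : t ∈ normalizer ((zpowers y : Subgroup G) : Set G) := by
    have hti : t * y⁻¹ * t⁻¹ = y := by
      rw [show t * y⁻¹ * t⁻¹ = (t * y * t⁻¹)⁻¹ by group, ht, inv_eq_iff_mul_eq_one]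
      exact T.h1.cube
    have hpow : ∀ g : G, ∀ k : ℤ, t * g ^ k * t⁻¹ = (t * g * t⁻¹) ^ k := fun g k => by rw [conj_zpow]
    rw [mem_normalizer_iff]
    intro g
    refine ⟨fun ⟨k, hk⟩ => ⟨2 * k, ?_⟩, fun ⟨k, hk⟩ => ⟨-k, ?_⟩⟩
    · show y ^ (2 * k) = _
      rw [← hk, zpow_mul, zpow_two, ← ht]
      exact (hpow y k).symm
    · have : g = t⁻¹ * y ^ k * t := by
        rw [show y ^ k = t * g * t⁻¹ from hk]; group
      show y ^ (-k) = g
      rw [this]
      conv_rhs => rw [← hti, ← hpow, inv_zpow, ← zpow_neg]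
      group
  rw [relIndex, index_eq_two_iff_exists_notMem_and]
  refine ⟨⟨t, htN⟩, fun h => ?_, fun b => or_iff_not_imp_right.2 fun hb => ?_⟩
  · rw [mem_subgroupOf] at h
    exact hyy (by rw [← ht, mem_centralizer_singleton_iff.1 h, mul_inv_cancel_right])
  · rw [mem_subgroupOf] at hb ⊢
    have hconj : (b : G) * y * (b : G)⁻¹ ∈ zpowers y := (mem_normalizer_iff.1 b.2 y).1 (mem_zpowers y)
    have hbt : ((b * ⟨t, htN⟩ : ↥(normalizer ((zpowers y : Subgroup G) : Set G))) : G) = b * t := rfl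
    rw [hbt, mem_centralizer_singleton_iff, ← mul_inv_eq_iff_eq_mul,
      show (b : G) * t * y * ((b : G) * t)⁻¹ = (b : G) * (t * y * t⁻¹) * (b : G)⁻¹ by group, ht]
    rcases mem_zpowers_three T.h1.cube hconj with e | e | e
    · exact absurd (conj_eq_one_iff.1 e) T.y_ne_one
    · exact absurd (mem_centralizer_singleton_iff.2 (mul_inv_eq_iff_eq_mul.1 e)) hb
    · rw [show (b : G) * (y * y) * (b : G)⁻¹ = (b : G) * y * (b : G)⁻¹ * ((b : G) * y * (b : G)⁻¹) by group, e,
        show y * y * (y * y) = y * y * y * y by group, T.h1.cube, one_mul]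

/-- The three conclusions. -/
theorem conclusion (hfus : ∃ g : G, g * z * g⁻¹ ∈ Q ∧ g * z * g⁻¹ ≠ z) (Y' C' : Subgroup G)
    (hY' : Y' = zpowers y) (hC' : C' = centralizer ({y} : Set G)) [(Y'.subgroupOf C').Normal]
    (K : Type) [Field K] [Fintype K] (hK : Fintype.card K = 9) :
    Cfsg.IsQuasisimple ↥C' ∧ Nonempty (↥C' ⧸ Y'.subgroupOf C' ≃* Cfsg.PSU 4 K 3) ∧
      C'.relIndex (normalizer (Y' : Set G)) = 2 := by
  subst hY' hC'
  exact ⟨T.quasisimple hfus, (T.simple_quot hfus).2.2 K hK, T.relIndex_normalizer⟩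

end Std

/-- The theorem. -/
theorem main (z : G) (hz : orderOf z = 2) (Q : Subgroup (centralizer ({z} : Set G))) [Q.Normal]
    (hF : Cfsg.generalizedFittingSubgroup (centralizer ({z} : Set G)) = Q) (hQ : Cfsg.IsExtraspecial 2 Q)
    (hcard : Nat.card Q = 2 ^ 7)
    (e : (centralizer ({z} : Set G)) ⧸ Q ≃* Cfsg.Omega (ZMod 2) (Cfsg.quadFormMinus 2 (ZMod 2) 1 1))
    (hnwc : ∃ g : G, (∃ hq : g * z * g⁻¹ ∈ centralizer ({z} : Set G),
      (⟨g * z * g⁻¹, hq⟩ : centralizer ({z} : Set G)) ∈ Q) ∧ g * z * g⁻¹ ≠ z)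
    (Y : Subgroup (centralizer ({z} : Set G))) (hY : Nat.card Y = 3) (hQY : Nat.card ↥⁅Q, Y⁆ = 8)
    (hQYna : ¬ IsMulCommutative ↥⁅Q, Y⁆) (Y' C' : Subgroup G)
    (hY' : Y' = Y.map (centralizer ({z} : Set G)).subtype) (hC' : C' = centralizer (Y' : Set G))
    [(Y'.subgroupOf C').Normal] (K : Type) [Field K] [Fintype K] (hK : Fintype.card K = 9) :
    Cfsg.IsQuasisimple ↥C' ∧ Nonempty (↥C' ⧸ Y'.subgroupOf C' ≃* Cfsg.PSU 4 K 3) ∧
      C'.relIndex (normalizer (Y' : Set G)) = 2 := by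
  classical
  obtain ⟨φ, S⟩ := SuzType.exists_data z hz Q hF hQ hcard e
  obtain ⟨Q', hQ'⟩ : ∃ Q', Q' = Q.map (centralizer ({z} : Set G)).subtype := ⟨_, rfl⟩
  rw [← hQ'] at S
  have hfus : ∃ g : G, g * z * g⁻¹ ∈ Q' ∧ g * z * g⁻¹ ≠ z := by
    obtain ⟨g, ⟨hq, hgQ⟩, hne⟩ := hnwc
    exact ⟨g, hQ' ▸ ⟨_, hgQ, rfl⟩, hne⟩
  haveI : Fact (Nat.Prime 3) := ⟨Nat.prime_three⟩
  obtain ⟨y₀, hy₀⟩ := (isCyclic_of_prime_card hY).exists_generator
  set y : G := ((y₀ : ↥(centralizer ({z} : Set G))) : G) with hy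
  have hYz : Y' = zpowers y := by
    rw [hY']
    refine le_antisymm ?_ (zpowers_le.2 ⟨_, y₀.2, rfl⟩)
    rintro _ ⟨a, ha, rfl⟩
    obtain ⟨k, hk⟩ := hy₀ ⟨a, ha⟩
    exact ⟨k, congrArg (fun u : ↥Y => ((u : ↥(centralizer ({z} : Set G))) : G)) hk⟩
  have hyz : y * z = z * y := mem_centralizer_singleton_iff.1 (y₀ : ↥(centralizer ({z} : Set G))).2
  have hy3 : y * y * y = 1 := by
    have h1 : y₀ ^ Nat.card Y = 1 := pow_card_eq_one'
    rw [hY] at h1
    have h2 := congrArg (fun u : ↥Y => ((u : ↥(centralizer ({z} : Set G))) : G)) h1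
    simpa [pow_succ, hy] using h2
  have hKmap : ⁅Q', zpowers y⁆ = (⁅Q, Y⁆).map (centralizer ({z} : Set G)).subtype := by
    rw [Subgroup.map_commutator, hQ', ← hY', hYz]
  obtain ⟨k, hk, hR⟩ := exists_rot_of_commutator S hyz hy3
    (by rw [hKmap, card_map_of_injective (centralizer ({z} : Set G)).subtype_injective, hQY])
    (fun h => hQYna ⟨⟨fun a b => by
      have hm : ∀ u : ↥⁅Q, Y⁆, ((u : ↥(centralizer ({z} : Set G))) : G) ∈ ⁅Q', zpowers y⁆ := fun u => by
        rw [hKmap]; exact mem_map_of_mem (centralizer ({z} : Set G)).subtype u.2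
      have h1 := h.is_comm.comm ⟨_, hm a⟩ ⟨_, hm b⟩
      have h2 := congrArg Subtype.val h1
      exact Subtype.ext (Subtype.ext (by simpa using h2))⟩⟩)
  -- change the coordinates
  have hki := inv_comm_z hk
  have hQk : Q'.map (MulAut.conj k⁻¹).toMonoidHom = Q' := by
    refine le_antisymm (fun x hx => ?_) fun x hx => ⟨k * x * k⁻¹, S.norm hk hx, by simp [mul_assoc]⟩
    obtain ⟨q, hq, rfl⟩ := hx
    exact S.norm hki hq
  have hzk : k⁻¹ * z * k⁻¹⁻¹ = z := S.conjZ hki
  obtain ⟨ψ, hψ⟩ : ∃ ψ, ψ = fun x => φ ((k⁻¹)⁻¹ * x * k⁻¹) := ⟨_, rfl⟩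
  have S' : Data z Q' ψ := by
    have h := S.map k⁻¹
    rwa [hQk, hzk, ← hψ] at h
  have hR' : Rot z Q' ψ r1 y := by
    refine ⟨hyz, hy3, S'.act_eq hyz fun q hq => ?_⟩
    rw [hψ]
    show φ (k⁻¹⁻¹ * (y * q * y⁻¹) * k⁻¹) = wfun r1 (φ (k⁻¹⁻¹ * q * k⁻¹))
    rw [inv_inv, show k * (y * q * y⁻¹) * k⁻¹ = k * y * k⁻¹ * (k * q * k⁻¹) * (k * y * k⁻¹)⁻¹ by group,
      ← S.act_phi hR.comm (S.norm hk hq), hR.act_eq]
  obtain ⟨y2, y3, T⟩ := exists_std S' hR'
  refine T.conclusion hfus Y' C' hYz ?_ K hK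
  rw [hC', hYz, zpowers_eq_closure, centralizer_closure]

end CfsgLib.InvChar.SuzY
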