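import Cfsg.Agent.Lib.InvChar.SuzY.Stab
import Cfsg.Agent.Lib.StructC.HuppertRegular

/-!
The centraliser of `y` in the centraliser of `z`: its order is 3456, it contains two commuting subgroups
isomorphic to `SL(2, 3)` that meet in `⟨z⟩`, and squares lie in their product with `⟨y⟩`.
-/

set_option autoImplicit false
set_option linter.unusedSectionVars false
set_option synthInstance.maxSize 4096
set_option synthInstance.maxHeartbeats 200000

namespace CfsgLib.InvChar.SuzY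

open Subgroup CfsgLib.InvChar.SuzType

theorem p1_cases : ∀ a : V, InP1 a → a ≠ 0 → a = v0 ∨ a = w0 ∨ a = v0 + w0 := by decide +kernel

theorem p1_v0 : ∀ b : V, InP1 (wfun r1 b + b) ∧ wfun r1 w0 + w0 = v0 := by decide +kernel

theorem p2_aniso : ∀ x : V, (InP2 x → qf x = 0 → x = 0) ∧ (InP3 x → qf x = 0 → x = 0) := by decide +kernel

theorem rot2_sq : ¬ SameMap (r2 ++ r2) [] ∧ ¬ SameMap (r2 ++ r2 ++ (r2 ++ r2)) [] ∧
    ¬ SameMap (r3 ++ r3) [] ∧ ¬ SameMap (r3 ++ r3 ++ (r3 ++ r3)) [] := by decide +kernel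

theorem card_P2 : (Finset.univ.filter InP2).card = 4 := by decide +kernel

theorem card_P3 : (Finset.univ.filter InP3).card = 4 := by decide +kernel

theorem card_W : (Finset.univ.filter InW).card = 16 := by decide +kernel

/-- Standard elements of order three: `y` rotates the first plane, `y2` the second, `y3` the third. -/
structure Std {G : Type*} [Group G] (z : G) (Q : Subgroup G) (φ : G → V) (y y2 y3 : G) : Prop where
  S : Data z Q φ
  h1 : Rot z Q φ r1 y
  h2 : Rot z Q φ r2 y2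
  h3 : Rot z Q φ r3 y3
  c12 : y * y2 = y2 * y
  c13 : y * y3 = y3 * y
  c23 : y2 * y3 = y3 * y2

variable {G : Type*} [Group G] [Finite G] {z : G} {Q : Subgroup G} {φ : G → V}

theorem SameMap.symm {w w' : List (ℕ × ℕ)} (h : SameMap w w') : SameMap w' w := fun i hi => (h i hi).symm

theorem exists_std (S : Data z Q φ) {y : G} (hy : Rot z Q φ r1 y) : ∃ y2 y3, Std z Q φ y y2 y3 := by
  have powc : ∀ {h g : G}, h * g * h⁻¹ = g → g * (h * h * h * h) = h * h * h * h * g := fun {h g} e => by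
    have hc : Commute h g := mul_inv_eq_iff_eq_mul.1 e
    exact (((hc.mul_left hc).mul_left hc).mul_left hc).eq.symm
  obtain ⟨h, hh, hact, he⟩ := exists_lift S good_rot.2.1 rot_comm.1.symm hy hy
  have H2 := rot_pow_four S rot_cube.2.1 hh hact
  have c12 : y * (h * h * h * h) = h * h * h * h * y := powc he
  obtain ⟨k, hk, hact', he1, he2⟩ :=
    exists_lift₂ S good_rot.2.2.1 rot_comm.2.1.symm rot_comm.2.2.symm hy hy H2 H2 c12 c12
  exact ⟨_, _, S, hy, H2, rot_pow_four S rot_cube.2.2 hk hact', c12, powc he1, powc he2⟩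

/-- The members of `Q` above a set of coordinates closed under addition. -/
noncomputable def pre (S : Data z Q φ) (P : V → Prop) (h0 : P 0) (ha : ∀ x y, P x → P y → P (x + y)) :
    Subgroup G where
  carrier := {q | q ∈ Q ∧ P (φ q)}
  one_mem' := ⟨Q.one_mem, by rw [S.phi_one]; exact h0⟩
  mul_mem' := fun {a b} h h' => ⟨Q.mul_mem h.1 h'.1, by rw [S.hadd a h.1 b h'.1]; exact ha _ _ h.2 h'.2⟩
  inv_mem' := fun {a} h => ⟨Q.inv_mem h.1, by rw [S.phi_inv h.1]; exact h.2⟩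

theorem mem_pre (S : Data z Q φ) {P : V → Prop} {h0 : P 0} {ha : ∀ x y, P x → P y → P (x + y)} {g : G} :
    g ∈ pre S P h0 ha ↔ g ∈ Q ∧ P (φ g) := Iff.rfl

theorem card_pre (S : Data z Q φ) (P : V → Prop) [DecidablePred P] (h0 : P 0)
    (ha : ∀ x y, P x → P y → P (x + y)) :
    Nat.card ↥(pre S P h0 ha) = 2 * (Finset.univ.filter P).card := by
  classical
  haveI : Fintype ↥(pre S P h0 ha) := Fintype.ofFinite _
  have h1 : ∀ v ∈ Finset.univ.filter P,
      (Finset.univ.filter fun a : ↥(pre S P h0 ha) => φ a = v).card = 2 := by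
    intro v hv
    rw [Finset.mem_filter] at hv
    obtain ⟨a, haQ, rfl⟩ := S.hsurj v
    rw [Finset.card_eq_two]
    refine ⟨⟨a, haQ, hv.2⟩, ⟨a * z, mul_mem haQ S.zQ, by rw [S.phi_mul_z haQ]; exact hv.2⟩,
      fun e => S.zne (mul_eq_left.1 (congrArg Subtype.val e).symm), ?_⟩
    ext b
    simp only [Finset.mem_filter, Finset.mem_univ, true_and, Finset.mem_insert, Finset.mem_singleton]
    refine ⟨fun e => ?_, ?_⟩
    · rcases S.phi_eq b.2.1 haQ e with e' | e'
      · exact Or.inl (Subtype.ext e')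
      · exact Or.inr (Subtype.ext e')
    · rintro (rfl | rfl)
      · rfl
      · exact S.phi_mul_z haQ
  rw [Nat.card_eq_fintype_card, ← Finset.card_univ,
    Finset.card_eq_sum_card_fiberwise (f := fun a : ↥(pre S P h0 ha) => φ a) (t := Finset.univ.filter P)
      (fun a _ => Finset.mem_filter.2 ⟨Finset.mem_univ _, a.2.2⟩),
    Finset.sum_congr rfl h1, Finset.sum_const, smul_eq_mul, mul_comm]

theorem fix_comm (S : Data z Q φ) {w : List (ℕ × ℕ)} {g q : G} (hg : Rot z Q φ w g) (hq : q ∈ Q)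
    (hf : wfun w (φ q) = φ q) : g * q = q * g := by
  have hn := S.norm hg.comm hq
  have e : φ (g * q * g⁻¹) = φ q := by rw [← S.act_phi hg.comm hq, hg.act_eq, hf]
  rcases S.phi_eq hn hq e with h | h
  · exact mul_inv_eq_iff_eq_mul.1 h
  · exfalso
    have hzg : g * z * g⁻¹ = z := S.conjZ hg.comm
    have h2 : g * (g * q * g⁻¹) * g⁻¹ = q := by
      rw [h, show g * (q * z) * g⁻¹ = g * q * g⁻¹ * (g * z * g⁻¹) by group, h, hzg, mul_assoc, S.zz, mul_one]
    have h3 : g * (g * (g * q * g⁻¹) * g⁻¹) * g⁻¹ = q := by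
      calc g * (g * (g * q * g⁻¹) * g⁻¹) * g⁻¹ = g * g * g * q * (g * g * g)⁻¹ := by group
        _ = q := by rw [hg.cube]; group
    rw [h2, h] at h3
    exact S.zne (mul_eq_left.1 h3)

theorem fix_of_comm (S : Data z Q φ) {w : List (ℕ × ℕ)} {g q : G} (hg : Rot z Q φ w g) (hq : q ∈ Q)
    (hc : g * q = q * g) : wfun w (φ q) = φ q := by
  rw [← hg.act_eq, S.act_phi hg.comm hq, hc, mul_inv_cancel_right]

namespace Std

variable {y y2 y3 : G} (T : Std z Q φ y y2 y3)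
include T

/-- The quaternion group above the second plane. -/
noncomputable def Q2 (T : Std z Q φ y y2 y3) : Subgroup G :=
  pre T.S InP2 (Or.inl rfl) fun x y => (planes_add x y).1

/-- The quaternion group above the third plane. -/
noncomputable def Q3 (T : Std z Q φ y y2 y3) : Subgroup G :=
  pre T.S InP3 (Or.inl rfl) fun x y => (planes_add x y).2.1

/-- The centraliser of `y` in `Q`. -/
noncomputable def W (T : Std z Q φ y y2 y3) : Subgroup G :=
  pre T.S InW ⟨bf_zero' v0, bf_zero' w0⟩ fun x y => (planes_add x y).2.2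
where
  bf_zero' (x : V) : bf 0 x = 0 := zero_bf x

theorem mem_W {g : G} : g ∈ T.W ↔ g ∈ Q ∧ y * g = g * y :=
  ⟨fun h => ⟨h.1, fix_comm T.S T.h1 h.1 ((rot_fix_iff _).2 h.2)⟩,
    fun h => ⟨h.1, (rot_fix_iff _).1 (fix_of_comm T.S T.h1 h.1 h.2)⟩⟩

theorem card_Q2 : Nat.card ↥T.Q2 = 8 := by exact (card_pre T.S InP2 _ _).trans (by rw [card_P2])

theorem card_Q3 : Nat.card ↥T.Q3 = 8 := by exact (card_pre T.S InP3 _ _).trans (by rw [card_P3])

theorem card_W : Nat.card ↥T.W = 32 := by exact (card_pre T.S InW _ _).trans (by rw [SuzY.card_W])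

theorem Q2_le : T.Q2 ≤ T.W := fun g h => ⟨h.1, ((rot_planes _).1 h.2).1⟩

theorem Q3_le : T.Q3 ≤ T.W := fun g h => ⟨h.1, ((rot_planes _).2.1 h.2).1⟩

theorem zQ2 : z ∈ T.Q2 := ⟨T.S.zQ, by rw [T.S.hz]; exact Or.inl rfl⟩

theorem zQ3 : z ∈ T.Q3 := ⟨T.S.zQ, by rw [T.S.hz]; exact Or.inl rfl⟩

theorem W_eq {g : G} (h : g ∈ T.W) : ∃ a ∈ T.Q2, ∃ b ∈ T.Q3, g = a * b := by
  obtain ⟨u, v, hu, hv, e⟩ := planes_span _ h.2
  obtain ⟨a, ha, rfl⟩ := T.S.hsurj u
  obtain ⟨b, hb, rfl⟩ := T.S.hsurj v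
  rw [← T.S.hadd a ha b hb] at e
  rcases T.S.phi_eq h.1 (mul_mem ha hb) e with e' | e'
  · exact ⟨a, ⟨ha, hu⟩, b, ⟨hb, hv⟩, e'⟩
  · exact ⟨a, ⟨ha, hu⟩, b * z, mul_mem (show b ∈ T.Q3 from ⟨hb, hv⟩) T.zQ3, by rw [e', mul_assoc]⟩

/-- The first `SL(2, 3)`. -/
noncomputable def H1 (T : Std z Q φ y y2 y3) : Subgroup G := T.Q2 ⊔ zpowers y2

/-- The second `SL(2, 3)`. -/
noncomputable def H2 (T : Std z Q φ y y2 y3) : Subgroup G := T.Q3 ⊔ zpowers y3

theorem Q_comm {a b : G} (ha : a ∈ T.Q2) (hb : b ∈ T.Q3) : a * b = b * a :=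
  (T.S.commute_iff ha.1 hb.1).2 (planes_orth _ _ ha.2 hb.2)

theorem y2_comm {b : G} (hb : b ∈ T.Q3) : y2 * b = b * y2 :=
  fix_comm T.S T.h2 hb.1 ((rot_planes _).2.1 hb.2).2.1

theorem y3_comm {a : G} (ha : a ∈ T.Q2) : y3 * a = a * y3 :=
  fix_comm T.S T.h3 ha.1 ((rot_planes _).1 ha.2).2.1

theorem H_comm {a b : G} (ha : a ∈ T.H1) (hb : b ∈ T.H2) : a * b = b * a := by
  have h : T.H1 ≤ centralizer (T.H2 : Set G) := by
    unfold H1 H2
    refine sup_le (le_centralizer_iff.1 (sup_le (fun b hb => mem_centralizer_iff.2 fun a ha => T.Q_comm ha hb)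
      (zpowers_le.2 (mem_centralizer_iff.2 fun a ha => (T.y3_comm ha).symm))))
      (le_centralizer_iff.1 (sup_le (fun b hb => mem_centralizer_iff.2 fun a ha => ?_)
      (zpowers_le.2 (mem_centralizer_iff.2 fun a ha => ?_))))
    · obtain ⟨k, rfl⟩ := ha
      exact ((show Commute y2 b from T.y2_comm hb).zpow_left k).eq
    · obtain ⟨k, rfl⟩ := ha
      exact ((show Commute y2 y3 from T.c23).zpow_left k).eq
  exact (mem_centralizer_iff.1 (h ha) b hb).symm

theorem H1_le_centralizers : T.H1 ≤ centralizer ({y} : Set G) ⊓ centralizer ({z} : Set G) := by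
  refine sup_le (fun g hg => ⟨mem_centralizer_singleton_iff.2 (T.mem_W.1 (T.Q2_le hg)).2.symm,
    mem_centralizer_singleton_iff.2 (T.S.commQ hg.1)⟩) (zpowers_le.2 ?_)
  exact ⟨mem_centralizer_singleton_iff.2 T.c12.symm, mem_centralizer_singleton_iff.2 T.h2.comm⟩

theorem H2_le_centralizers : T.H2 ≤ centralizer ({y} : Set G) ⊓ centralizer ({z} : Set G) := by
  refine sup_le (fun g hg => ⟨mem_centralizer_singleton_iff.2 (T.mem_W.1 (T.Q3_le hg)).2.symm,
    mem_centralizer_singleton_iff.2 (T.S.commQ hg.1)⟩) (zpowers_le.2 ?_)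
  exact ⟨mem_centralizer_singleton_iff.2 T.c13.symm, mem_centralizer_singleton_iff.2 T.h3.comm⟩

/-- Exchanging the second and third planes: the lemmas on `H1` apply to `H2`. -/
theorem conjQ2 {g : G} (hg : g ∈ zpowers y2) {a : G} (ha : a ∈ T.Q2) : g * a * g⁻¹ ∈ T.Q2 := by
  have h1 : ∀ a ∈ T.Q2, y2 * a * y2⁻¹ ∈ T.Q2 := fun a ha =>
    ⟨T.S.norm T.h2.comm ha.1, by
      rw [← T.S.act_phi T.h2.comm ha.1, T.h2.act_eq]; exact ((rot_planes _).1 ha.2).2.2⟩
  rcases mem_zpowers_three T.h2.cube hg with rfl | rfl | rfl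
  · simpa using ha
  · exact h1 a ha
  · have := h1 _ (h1 a ha)
    rwa [show y2 * (y2 * a * y2⁻¹) * y2⁻¹ = y2 * y2 * a * (y2 * y2)⁻¹ by group] at this

theorem conjQ3 {g : G} (hg : g ∈ zpowers y3) {a : G} (ha : a ∈ T.Q3) : g * a * g⁻¹ ∈ T.Q3 := by
  have h1 : ∀ a ∈ T.Q3, y3 * a * y3⁻¹ ∈ T.Q3 := fun a ha =>
    ⟨T.S.norm T.h3.comm ha.1, by
      rw [← T.S.act_phi T.h3.comm ha.1, T.h3.act_eq]; exact ((rot_planes _).2.1 ha.2).2.2⟩
  rcases mem_zpowers_three T.h3.cube hg with rfl | rfl | rfl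
  · simpa using ha
  · exact h1 a ha
  · have := h1 _ (h1 a ha)
    rwa [show y3 * (y3 * a * y3⁻¹) * y3⁻¹ = y3 * y3 * a * (y3 * y3)⁻¹ by group] at this

end Std

/-- A product of a subgroup with a cyclic group normalising it: form, cardinality and uniqueness. -/
theorem sup_zpowers_form {N : Subgroup G} {g : G} (hn : ∀ x ∈ zpowers g, ∀ a ∈ N, x * a * x⁻¹ ∈ N)
    (hdisj : ∀ x ∈ zpowers g, x ∈ N → x = 1) :
    (∀ t ∈ N ⊔ zpowers g, ∃ a ∈ N, ∃ x ∈ zpowers g, t = a * x) ∧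
      Nat.card ↥(N ⊔ zpowers g) = Nat.card ↥N * orderOf g := by
  have hle : zpowers g ≤ normalizer (N : Set G) := fun x hx => by
    rw [mem_normalizer_iff]
    intro a
    refine ⟨hn x hx a, fun h => ?_⟩
    have := hn x⁻¹ (inv_mem hx) _ h
    rwa [show x⁻¹ * (x * a * x⁻¹) * x⁻¹⁻¹ = a by group] at this
  have hform : ∀ t ∈ N ⊔ zpowers g, ∃ a ∈ N, ∃ x ∈ zpowers g, t = a * x := by
    intro t ht
    rw [sup_comm, ← SetLike.mem_coe, coe_mul_of_left_le_normalizer_right _ _ hle] at ht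
    obtain ⟨x, hx, a, ha, rfl⟩ := ht
    exact ⟨x * a * x⁻¹, hn x hx a ha, x, hx, by group⟩
  refine ⟨hform, ?_⟩
  let F : ↥N × ↥(zpowers g) → ↥(N ⊔ zpowers g) := fun p =>
    ⟨p.1 * p.2, mul_mem (mem_sup_left p.1.2) (mem_sup_right p.2.2)⟩
  have hF : Function.Bijective F := by
    refine ⟨fun p p' e => ?_, fun t => ?_⟩
    · have e' : (p.1 : G) * p.2 = p'.1 * p'.2 := congrArg Subtype.val e
      have h : (p.2 : G) * (p'.2 : G)⁻¹ ∈ N := by
        rw [show (p.2 : G) * (p'.2 : G)⁻¹ = (p.1 : G)⁻¹ * p'.1 by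
          rw [eq_inv_mul_iff_mul_eq, ← mul_assoc, e', mul_inv_cancel_right]]
        exact mul_mem (inv_mem p.1.2) p'.1.2
      have h2 := mul_inv_eq_one.1 (hdisj _ (mul_mem p.2.2 (inv_mem p'.2.2)) h)
      rw [h2, mul_left_inj] at e'
      exact Prod.ext (Subtype.ext e') (Subtype.ext h2)
    · obtain ⟨a, ha, x, hx, e⟩ := hform t t.2
      exact ⟨(⟨a, ha⟩, ⟨x, hx⟩), Subtype.ext e.symm⟩
  rw [← Nat.card_eq_of_bijective F hF, Nat.card_prod, Nat.card_zpowers]

theorem rot_not_mem (S : Data z Q φ) {w : List (ℕ × ℕ)} {g : G} (hg : Rot z Q φ w g)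
    (hne : ¬ SameMap (w ++ w) []) : g ≠ 1 ∧ ∀ x ∈ zpowers g, x ∈ Q → x = 1 := by
  have h2 : g * g ∉ Q := fun h => hne fun i _ => by
    rw [wfun_append, ← hg.act_eq, ← hg.act_eq, ← S.act_mul hg.comm hg.comm, S.act_of_mem h]; rfl
  have h1 : g ∉ Q := fun h => h2 (mul_mem h h)
  refine ⟨fun e => h1 (e ▸ Q.one_mem), fun x hx hxQ => ?_⟩
  rcases mem_zpowers_three hg.cube hx with rfl | rfl | rfl
  · rfl
  · exact absurd hxQ h1
  · exact absurd hxQ h2

/-- An extension of a quaternion group above a plane by a rotation is `SL(2, 3)`. -/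
theorem sl_of_plane (S : Data z Q φ) {N : Subgroup G} {w : List (ℕ × ℕ)} {g : G} (hg : Rot z Q φ w g)
    (hne : ¬ SameMap (w ++ w) []) (hne' : ¬ SameMap (w ++ w ++ (w ++ w)) []) (hN : Nat.card ↥N = 8)
    (hNQ : N ≤ Q) (hn : ∀ x ∈ zpowers g, ∀ a ∈ N, x * a * x⁻¹ ∈ N) (hzN : z ∈ N)
    (haniso : ∀ a ∈ N, qf (φ a) = 0 → φ a = 0) (hfix : ∀ a ∈ N, wfun w (φ a) = φ a → φ a = 0)
    {a b : G} (ha : a ∈ N) (hb : b ∈ N) (hab : bf (φ a) (φ b) = 1) :
    Nonempty (↥(N ⊔ zpowers g) ≃* Matrix.SpecialLinearGroup (Fin 2) (ZMod 3)) ∧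
      Nat.card ↥(N ⊔ zpowers g) = 24 ∧ ∀ t ∈ N ⊔ zpowers g, t * t = 1 → t = 1 ∨ t = z := by
  classical
  obtain ⟨hg1, hd⟩ := rot_not_mem S hg hne
  obtain ⟨hform, hcard⟩ := sup_zpowers_form hn fun x hx hxN => hd x hx (hNQ hxN)
  rw [hN, orderOf_three hg.cube hg1] at hcard
  have huniq : ∀ t ∈ N ⊔ zpowers g, t * t = 1 → t = 1 ∨ t = z := by
    intro t ht ht2
    obtain ⟨q, hq, x, hx, rfl⟩ := hform t ht
    have hxQ : x * x ∈ Q := by
      rw [show x * x = (x * q⁻¹ * x⁻¹) * q⁻¹ * (q * x * (q * x)) by group, ht2, mul_one]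
      exact mul_mem (hNQ (hn x hx _ (inv_mem hq))) (inv_mem (hNQ hq))
    have hx1 : x = 1 := by
      rcases mem_zpowers_three hg.cube hx with rfl | rfl | rfl
      · rfl
      · exact absurd (hd _ (mul_mem hx hx) hxQ) fun e => hne fun i _ => by
          rw [wfun_append, ← hg.act_eq, ← hg.act_eq, ← S.act_mul hg.comm hg.comm, e, S.act_of_mem Q.one_mem]
          rfl
      · have hc2 : g * g * z = z * (g * g) := mul_comm_z hg.comm hg.comm
        exact absurd (hd _ (mul_mem hx hx) hxQ) fun e => hne' fun i _ => by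
          rw [wfun_append, wfun_append, wfun_append, ← hg.act_eq, ← hg.act_eq, ← hg.act_eq, ← hg.act_eq,
            ← S.act_mul hg.comm hg.comm, ← S.act_mul hg.comm hg.comm, ← S.act_mul hc2 hc2, e,
            S.act_of_mem Q.one_mem]
          rfl
    subst hx1
    rw [mul_one] at ht2 ⊢
    exact S.hzero q (hNQ hq) (haniso q hq (S.sing_of_invol (hNQ hq) ht2))
  refine ⟨?_, hcard, huniq⟩
  have hle : N ≤ N ⊔ zpowers g := le_sup_left
  haveI : (N.subgroupOf (N ⊔ zpowers g)).Normal := ⟨fun m hm t => by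
    obtain ⟨q, hq, x, hx, e⟩ := hform t t.2
    rw [mem_subgroupOf] at hm ⊢
    show (t : G) * m * (t : G)⁻¹ ∈ N
    rw [e, show q * x * (m : G) * (q * x)⁻¹ = q * (x * m * x⁻¹) * q⁻¹ by group]
    exact mul_mem (mul_mem hq (hn x hx _ hm)) (inv_mem hq)⟩
  refine StructC.Huppert.sl23_of_order_24 hcard (fun t t' ht ht' => ?_) (N.subgroupOf (N ⊔ zpowers g))
    (by rw [Nat.card_congr (subgroupOfEquivOfLe hle).toEquiv, hN]) ?_
    ⟨g, mem_sup_right (mem_zpowers g)⟩ (by rw [← Subgroup.orderOf_coe, orderOf_three hg.cube hg1]) ?_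
  · have e : ∀ u : ↥(N ⊔ zpowers g), orderOf u = 2 → (u : G) = z := fun u hu => by
      refine (huniq u u.2 ?_).resolve_left fun e => ?_
      · rw [← Subgroup.coe_mul, ← pow_two, ← hu, pow_orderOf_eq_one]; rfl
      · rw [show u = 1 from Subtype.ext e, orderOf_one] at hu; omega
    exact Subtype.ext ((e t ht).trans (e t' ht').symm)
  · intro h
    have := congrArg (fun u : ↥(N.subgroupOf (N ⊔ zpowers g)) => ((u : ↥(N ⊔ zpowers g)) : G))
      (h.is_comm.comm (⟨⟨a, hle ha⟩, mem_subgroupOf.2 ha⟩ : ↥(N.subgroupOf (N ⊔ zpowers g)))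
        ⟨⟨b, hle hb⟩, mem_subgroupOf.2 hb⟩)
    simp only [Subgroup.coe_mul] at this
    rw [(S.commute_iff (hNQ ha) (hNQ hb))] at this
    rw [this] at hab
    exact zero_ne_one hab
  · refine ⟨⟨a, hle ha⟩, mem_subgroupOf.2 ha, fun e => ?_⟩
    have h0 := hfix a ha (fix_of_comm S hg (hNQ ha) (congrArg Subtype.val e))
    rw [h0, zero_bf] at hab
    exact zero_ne_one hab

namespace Std

variable {y y2 y3 : G} (T : Std z Q φ y y2 y3)
include T

theorem sl_H1 : Nonempty (↥T.H1 ≃* Matrix.SpecialLinearGroup (Fin 2) (ZMod 3)) ∧ Nat.card ↥T.H1 = 24 ∧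
    ∀ t ∈ T.H1, t * t = 1 → t = 1 ∨ t = z := by
  obtain ⟨a, ha, ea⟩ := T.S.hsurj (code 3)
  obtain ⟨b, hb, eb⟩ := T.S.hsurj (code 13)
  exact sl_of_plane T.S T.h2 rot2_sq.1 rot2_sq.2.1 T.card_Q2 (fun q h => h.1) (fun x hx a ha => T.conjQ2 hx ha)
    T.zQ2 (fun q h => (p2_aniso _).1 h.2) (fun q h => (rot_fix_plane _).1 h.2)
    (a := a) (b := b) ⟨ha, ea ▸ planes_noncomm.1⟩ ⟨hb, eb ▸ planes_noncomm.2.1⟩
    (by rw [ea, eb]; exact planes_noncomm.2.2.1)

theorem sl_H2 : Nonempty (↥T.H2 ≃* Matrix.SpecialLinearGroup (Fin 2) (ZMod 3)) ∧ Nat.card ↥T.H2 = 24 ∧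
    ∀ t ∈ T.H2, t * t = 1 → t = 1 ∨ t = z := by
  obtain ⟨a, ha, ea⟩ := T.S.hsurj (code 12)
  obtain ⟨b, hb, eb⟩ := T.S.hsurj (code 7)
  exact sl_of_plane T.S T.h3 rot2_sq.2.2.1 rot2_sq.2.2.2 T.card_Q3 (fun q h => h.1)
    (fun x hx a ha => T.conjQ3 hx ha) T.zQ3 (fun q h => (p2_aniso _).2 h.2) (fun q h => (rot_fix_plane _).2 h.2)
    (a := a) (b := b) ⟨ha, ea ▸ planes_noncomm.2.2.2.1⟩ ⟨hb, eb ▸ planes_noncomm.2.2.2.2.1⟩
    (by rw [ea, eb]; exact planes_noncomm.2.2.2.2.2.1)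

/-- The shape of an element centralising `y` and `z`. -/
theorem exists_form {h : G} (hh : h * z = z * h) (hy : h * y = y * h) :
    ∃ (g h' : G) (p : List (ℕ × ℕ)), h = g * h' ∧ (g = 1 ∨ g = y ∨ g = y * y) ∧ h' * z = z * h' ∧
      h' * y = y * h' ∧ p ∈ stabWords ∧ ∀ x, act Q φ h' x = wfun p x := by
  have hr : ∀ x, act Q φ h (wfun r1 x) = wfun r1 (act Q φ h x) := fun x => by
    rw [← T.h1.act_eq, ← T.h1.act_eq, ← T.S.act_mul hh T.h1.comm, hy, T.S.act_mul T.h1.comm hh]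
  set a := act Q φ h v0 with ha
  have hav : InP1 a := by
    rw [ha, ← (p1_v0 0).2, T.S.act_add hh, hr]
    exact (p1_v0 _).1
  have ha0 : a ≠ 0 := fun e => by
    have := T.S.act_qf hh v0
    rw [← ha, e, base_facts.2.2.2.2.2.2.1] at this
    exact absurd this (by decide)
  obtain ⟨g, hg, hgv⟩ : ∃ g, (g = 1 ∨ g = y ∨ g = y * y) ∧ act Q φ g v0 = a := by
    rcases p1_cases a hav ha0 with e | e | e <;> rw [e]
    · exact ⟨1, Or.inl rfl, T.S.act_of_mem Q.one_mem _⟩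
    · exact ⟨y, Or.inr (Or.inl rfl), (T.h1.act_eq v0).trans rot_v0.1⟩
    · exact ⟨y * y, Or.inr (Or.inr rfl), by
        rw [T.S.act_mul T.h1.comm T.h1.comm, T.h1.act_eq, T.h1.act_eq, rot_v0.1, rot_v0.2]⟩
  have hgz : g * z = z * g := by
    rcases hg with rfl | rfl | rfl
    · simp
    · exact T.h1.comm
    · exact mul_comm_z T.h1.comm T.h1.comm
  have hgy : Commute g y := by
    rcases hg with rfl | rfl | rfl
    · exact Commute.one_left _
    · exact Commute.refl _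
    · exact (Commute.refl _).mul_left (Commute.refl _)
  have hzz' : g⁻¹ * h * z = z * (g⁻¹ * h) := mul_comm_z (inv_comm_z hgz) hh
  have hyy' : g⁻¹ * h * y = y * (g⁻¹ * h) := (hgy.inv_left.mul_left (show Commute h y from hy)).eq
  have hv : act Q φ (g⁻¹ * h) v0 = v0 := by
    rw [T.S.act_mul (inv_comm_z hgz) hh, ← ha, ← hgv, T.S.act_inv_left hgz]
  have hw : act Q φ (g⁻¹ * h) w0 = w0 := by
    conv_lhs => rw [← rot_v0.1, ← T.h1.act_eq, ← T.S.act_mul hzz' T.h1.comm, hyy',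
      T.S.act_mul T.h1.comm hzz', hv, T.h1.act_eq, rot_v0.1]
  obtain ⟨p, hp, hpa⟩ := exists_stab_word T.S hzz' hv hw
  exact ⟨g, g⁻¹ * h, p, by group, hg, hzz', hyy', hp, hpa⟩

theorem exists_lift_stab {p : List (ℕ × ℕ)} (hp : p ∈ stabWords) :
    ∃ h : G, h * z = z * h ∧ h * y = y * h ∧ ∀ x, act Q φ h x = wfun p x := by
  obtain ⟨h, hh, hact, he⟩ := exists_lift T.S (good_stab p hp) (stab_comm p hp).symm T.h1 T.h1
  exact ⟨h, hh, mul_inv_eq_iff_eq_mul.1 he, hact⟩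

/-- The order of the centraliser of `y` and `z`. -/
theorem card_cent : Nat.card ↥(centralizer ({y} : Set G) ⊓ centralizer ({z} : Set G)) = 3456 := by
  classical
  let M := centralizer ({y} : Set G) ⊓ centralizer ({z} : Set G)
  let ρ : ↥M →* Equiv.Perm V := T.S.perm.comp (Subgroup.inclusion inf_le_right)
  have hρ : ∀ (m : ↥M) x, ρ m x = act Q φ (m : G) x := fun m x => rfl
  have hk : ρ.ker = T.W.subgroupOf M := by
    ext m
    rw [MonoidHom.mem_ker, mem_subgroupOf, T.mem_W]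
    refine ⟨fun e => ⟨T.S.mem_of_act_id (mem_centralizer_singleton_iff.1 m.2.2) fun x => ?_,
      (mem_centralizer_singleton_iff.1 m.2.1).symm⟩, fun h => Equiv.ext fun x => T.S.act_of_mem h.1 x⟩
    rw [← hρ, e]; rfl
  have hWM : T.W ≤ M := fun g hg => ⟨mem_centralizer_singleton_iff.2 (T.mem_W.1 hg).2.symm,
    mem_centralizer_singleton_iff.2 (T.S.commQ hg.1)⟩
  have hmem : ∀ i : Fin centWords.length, ∃ σ : ↥ρ.range,
      ∀ x, (σ : Equiv.Perm V) x = wfun centWords[i.1] x := by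
    intro i
    have hp : centWords[i.1] ∈ centWords := List.getElem_mem _
    simp only [centWords, List.mem_flatMap, List.mem_map] at hp
    obtain ⟨a, hmema, p, hp, hap⟩ := hp
    obtain ⟨h, hh, hy, hact⟩ := T.exists_lift_stab hp
    obtain ⟨g, hgz, hgy, hga⟩ : ∃ g : G, g * z = z * g ∧ Commute g y ∧ ∀ x, act Q φ g x = wfun a x := by
      simp only [List.mem_cons, List.not_mem_nil, or_false] at hmema
      rcases hmema with rfl | rfl | rfl
      · exact ⟨1, by simp, Commute.one_left _, fun x => T.S.act_of_mem Q.one_mem x⟩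
      · exact ⟨y, T.h1.comm, Commute.refl _, T.h1.act_eq⟩
      · exact ⟨y * y, mul_comm_z T.h1.comm T.h1.comm, (Commute.refl _).mul_left (Commute.refl _), fun x => by
          rw [T.S.act_mul T.h1.comm T.h1.comm, T.h1.act_eq, T.h1.act_eq, wfun_append]⟩
    refine ⟨⟨ρ ⟨g * h, mem_centralizer_singleton_iff.2 (hgy.mul_left hy).eq,
      mem_centralizer_singleton_iff.2 (mul_comm_z hgz hh)⟩, ⟨_, rfl⟩⟩, fun x => ?_⟩
    show act Q φ (g * h) x = _
    rw [T.S.act_mul hgz hh, hact, hga, ← wfun_append, hap]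
    rfl
  choose F hF using hmem
  have hinj : Function.Injective F := fun i j e => by
    have hs : SameMap centWords[i.1] centWords[j.1] := fun k _ => by rw [← hF, ← hF, e]
    have hpw := List.pairwise_iff_getElem.1 cent_distinct
    rcases lt_trichotomy i.1 j.1 with h1 | h1 | h1
    · exact absurd hs (hpw _ _ i.2 j.2 h1)
    · exact Fin.ext h1
    · exact absurd hs.symm (hpw _ _ j.2 i.2 h1)
  have hsurj : Function.Surjective F := by
    rintro ⟨σ, m, rfl⟩
    obtain ⟨g, h', p, hm, hg, hz', hy', hp, hact⟩ :=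
      T.exists_form (mem_centralizer_singleton_iff.1 m.2.2) (mem_centralizer_singleton_iff.1 m.2.1)
    obtain ⟨a, hmema, hgz, hga⟩ : ∃ a ∈ [([] : List (ℕ × ℕ)), r1, r1 ++ r1],
        g * z = z * g ∧ ∀ x, act Q φ g x = wfun a x := by
      rcases hg with rfl | rfl | rfl
      · exact ⟨[], by simp, by simp, fun x => T.S.act_of_mem Q.one_mem x⟩
      · exact ⟨r1, by simp, T.h1.comm, T.h1.act_eq⟩
      · exact ⟨r1 ++ r1, by simp, mul_comm_z T.h1.comm T.h1.comm, fun x => by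
          rw [T.S.act_mul T.h1.comm T.h1.comm, T.h1.act_eq, T.h1.act_eq, wfun_append]⟩
    have hap : a ++ p ∈ centWords := by
      simp only [centWords, List.mem_flatMap, List.mem_map]
      exact ⟨a, hmema, p, hp, rfl⟩
    obtain ⟨i, hi, e⟩ := List.getElem_of_mem hap
    refine ⟨⟨i, hi⟩, Subtype.ext (Equiv.ext fun x => ?_)⟩
    rw [hF]
    show wfun centWords[i] x = act Q φ (m : G) x
    rw [e, wfun_append, hm, T.S.act_mul hgz hz', hact, hga]
  have h1 := card_eq_card_quotient_mul_card_subgroup ρ.ker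
  rw [Nat.card_congr (QuotientGroup.quotientKerEquivRange ρ).toEquiv, hk,
    Nat.card_congr (subgroupOfEquivOfLe hWM).toEquiv, T.card_W,
    ← Nat.card_eq_of_bijective F ⟨hinj, hsurj⟩, Nat.card_fin, cent_length] at h1
  exact h1

theorem nine_lift {r : List (ℕ × ℕ)} (hr : r ∈ nineWords) :
    ∃ a ∈ zpowers y2, ∃ b ∈ zpowers y3, (a * b) * z = z * (a * b) ∧ ∀ x, act Q φ (a * b) x = wfun r x := by
  simp only [nineWords, List.mem_flatMap, List.mem_map] at hr
  obtain ⟨u, hu, v, hv, rfl⟩ := hr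
  have key : ∀ {g : G} {w : List (ℕ × ℕ)}, Rot z Q φ w g → ∀ u ∈ [([] : List (ℕ × ℕ)), w, w ++ w],
      ∃ a ∈ zpowers g, a * z = z * a ∧ ∀ x, act Q φ a x = wfun u x := by
    intro g w hg u hu
    simp only [List.mem_cons, List.not_mem_nil, or_false] at hu
    rcases hu with rfl | rfl | rfl
    · exact ⟨1, one_mem _, by simp, fun x => T.S.act_of_mem Q.one_mem x⟩
    · exact ⟨g, mem_zpowers g, hg.comm, hg.act_eq⟩
    · exact ⟨g * g, mul_mem (mem_zpowers g) (mem_zpowers g), mul_comm_z hg.comm hg.comm, fun x => by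
        rw [T.S.act_mul hg.comm hg.comm, hg.act_eq, hg.act_eq, wfun_append]⟩
  obtain ⟨a, ha, haz, haa⟩ := key T.h2 u hu
  obtain ⟨b, hb, hbz, hba⟩ := key T.h3 v hv
  exact ⟨a, ha, b, hb, mul_comm_z haz hbz, fun x => by rw [T.S.act_mul haz hbz, hba, haa, wfun_append]⟩

theorem W_le : T.W ≤ T.H1 ⊔ T.H2 := fun g hg => by
  obtain ⟨a, ha, b, hb, rfl⟩ := T.W_eq hg
  exact mul_mem (mem_sup_left (mem_sup_left ha)) (mem_sup_right (mem_sup_left hb))

/-- An element inducing a product of the two rotations lies in the product of the two factors. -/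
theorem mem_of_nine {h : G} (hh : h * z = z * h) (hy : h * y = y * h) {r : List (ℕ × ℕ)} (hr : r ∈ nineWords)
    (hact : ∀ x, act Q φ h x = wfun r x) : h ∈ T.H1 ⊔ T.H2 := by
  obtain ⟨a, ha, b, hb, habz, haba⟩ := T.nine_lift hr
  have hab : a * b ∈ T.H1 ⊔ T.H2 :=
    mul_mem (mem_sup_left (mem_sup_right ha)) (mem_sup_right (mem_sup_right hb))
  have haby : Commute (a * b) y := mem_centralizer_singleton_iff.1
    ((sup_le T.H1_le_centralizers T.H2_le_centralizers) hab).1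
  have hQ : (a * b)⁻¹ * h ∈ Q := T.S.mem_of_act_id (mul_comm_z (inv_comm_z habz) hh) fun x => by
    rw [T.S.act_mul (inv_comm_z habz) hh, hact, ← haba, T.S.act_inv_left habz]
  have := mul_mem hab (T.W_le (T.mem_W.2 ⟨hQ, (haby.inv_left.mul_left (show Commute h y from hy)).eq.symm⟩))
  rwa [mul_inv_cancel_left] at this

/-- Squares lie in the product of `⟨y⟩` and the two factors. -/
theorem sq_mem {h : G} (hh : h * z = z * h) (hy : h * y = y * h) :
    h * h ∈ zpowers y ⊔ (T.H1 ⊔ T.H2) := by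
  obtain ⟨g, h', p, rfl, hg, hz', hy', hp, hact⟩ := T.exists_form hh hy
  have hgh : Commute g h' := by
    rcases hg with e | e | e <;> rw [e]
    · exact Commute.one_left _
    · exact (show Commute h' y from hy').symm
    · exact (show Commute h' y from hy').symm.mul_left (show Commute h' y from hy').symm
  have hgY : g ∈ zpowers y := by
    rcases hg with e | e | e <;> rw [e]
    · exact one_mem _
    · exact mem_zpowers y
    · exact mul_mem (mem_zpowers y) (mem_zpowers y)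
  obtain ⟨r, hr, hrs⟩ := stab_sq_nine p hp
  rw [hgh.symm.mul_mul_mul_comm g h']
  refine mul_mem (mem_sup_left (mul_mem hgY hgY)) (mem_sup_right ?_)
  exact T.mem_of_nine (mul_comm_z hz' hz')
    ((show Commute h' y from hy').mul_left (show Commute h' y from hy')).eq hr fun x => by
      rw [T.S.act_mul hz' hz', hact, hact, ← wfun_append, hrs.apply]

end Std

end CfsgLib.InvChar.SuzY
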