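import Cfsg.Agent.Lib.InvChar.SuzY.Stab
import Cfsg.Agent.Lib.InvChar.SuzType.Main
import Mathlib.GroupTheory.Perm.Cycle.Type

/-!
An element of order three of the centraliser of `z` that fixes a non-zero singular vector, or whose
commutator subgroup with `Q` is a quaternion group, is conjugate to one rotating the first plane; hence
conjugates of `z` in `Q` centralised by such an element `y` are conjugate to `z` under the centraliser of `y`.
-/

set_option autoImplicit false
set_option linter.unusedSectionVars false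
set_option synthInstance.maxSize 4096
set_option synthInstance.maxHeartbeats 200000

namespace CfsgLib.InvChar.SuzY

open Subgroup CfsgLib.InvChar.SuzType
open scoped commutatorElement

theorem plane_split : ∀ x : V, ∃ c w : V, InP1 c ∧ InW w ∧ x = c + w := by decide +kernel

theorem nondeg : ∀ x : V, x ≠ 0 → ∃ w : V, bf x w = 1 := by decide +kernel

variable {G : Type*} [Group G] [Finite G] {z : G} {Q : Subgroup G} {φ : G → V} (S : Data z Q φ)
include S

theorem act_zero {h : G} (hh : h * z = z * h) : act Q φ h 0 = 0 := by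
  have h1 := S.act_add hh 0 0
  rw [add_zero] at h1
  exact left_eq_add.1 h1

theorem act_inj {h : G} (hh : h * z = z * h) {x x' : V} (e : act Q φ h x = act Q φ h x') : x = x' := by
  rw [← S.act_inv_left hh x, e, S.act_inv_left hh]

theorem act_cube {y : G} (hy : y * z = z * y) (h3 : y * y * y = 1) (x : V) :
    act Q φ y (act Q φ y (act Q φ y x)) = x := by
  rw [← S.act_mul hy hy, ← S.act_mul (mul_comm_z hy hy) hy, h3, S.act_of_mem Q.one_mem]

theorem act_sum {y : G} (hy : y * z = z * y) (h3 : y * y * y = 1) (x : V) :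
    act Q φ y (act Q φ y x + x) = act Q φ y x + x → act Q φ y x = x := by
  intro e
  rw [S.act_add hy, add_comm (act Q φ y (act Q φ y x))] at e
  have h := act_cube S hy h3 x
  rwa [add_left_cancel e] at h

/-- An element moving everything within a plane is conjugate to a standard rotation. -/
theorem exists_rot_of_plane {y : G} (hy : y * z = z * y) (h3 : y * y * y = 1) {a : V}
    (hab : bf a (act Q φ y a) = 1)
    (hR : ∀ x, act Q φ y x + x = 0 ∨ act Q φ y x + x = a ∨ act Q φ y x + x = act Q φ y a ∨
      act Q φ y x + x = a + act Q φ y a) :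
    ∃ k : G, k * z = z * k ∧ Rot z Q φ r1 (k * y * k⁻¹) := by
  set f := act Q φ y with hf
  set b := f a with hb
  have f_bf : ∀ x x', bf (f x) (f x') = bf x x' := S.act_bf hy
  have f_add : ∀ x x', f (x + x') = f x + f x' := S.act_add hy
  have hfb : f b = a + b := by
    rcases hR b with e | e | e | e
    · exfalso
      have e1 : f b = b := by
        calc f b = f b + b + b := by rw [add_assoc, v_self, add_zero]
          _ = b := by rw [e, zero_add]
      have e2 : b = a := act_inj S hy e1
      rw [e2, bf_self] at hab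
      exact zero_ne_one hab
    · calc f b = f b + b + b := by rw [add_assoc, v_self, add_zero]
        _ = a + b := by rw [e]
    · exfalso
      have e1 : f b = f 0 := by
        calc f b = f b + b + b := by rw [add_assoc, v_self, add_zero]
          _ = f 0 := by rw [e, v_self]; exact (act_zero S hy).symm
      rw [act_inj S hy e1, bf_zero] at hab
      exact zero_ne_one hab
    · exfalso
      have e1 : f b = a := by
        calc f b = f b + b + b := by rw [add_assoc, v_self, add_zero]
          _ = a := by rw [e, add_assoc, v_self, add_zero]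
      have e2 : f (f (f a)) = a := act_cube S hy h3 a
      rw [← hb, e1, ← hb] at e2
      rw [e2, bf_self] at hab
      exact zero_ne_one hab
  have hqa : qf a = 1 := by
    have h1 : qf b = qf a := S.act_qf hy a
    have h2 : qf (a + b) = qf b := by rw [← hfb]; exact S.act_qf hy b
    rw [qf_add, h1, hab] at h2
    rcases z2_cases' (qf a) with e | e
    · rw [e] at h2; exact absurd h2 (by decide)
    · exact e
  have hqb : qf b = 1 := (S.act_qf hy a).trans hqa
  obtain ⟨k, hk, ka, kb⟩ := exists_to_pair S hqa hqb hab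
  have hki := inv_comm_z hk
  refine ⟨k, hk, mul_comm_z (mul_comm_z hk hy) hki, cube_conj h3, fun x => ?_⟩
  set g := fun x => act Q φ k (f (act Q φ k⁻¹ x)) with hg
  have hgx : ∀ x, act Q φ (k * y * k⁻¹) x = g x := fun x => by
    rw [S.act_mul (mul_comm_z hk hy) hki, S.act_mul hk hy]
  have g_add : ∀ x x', g (x + x') = g x + g x' := fun x x' => by
    simp only [hg, S.act_add hki, f_add, S.act_add hk]
  have kv : act Q φ k⁻¹ v0 = a := by rw [← ka, S.act_inv_left hk]
  have kw : act Q φ k⁻¹ w0 = b := by rw [← kb, S.act_inv_left hk]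
  have gv : g v0 = w0 := by simp only [hg, kv, ← hb, kb]
  have gw : g w0 = v0 + w0 := by simp only [hg, kw, hfb, S.act_add hk, ka, kb]
  have g0 : g 0 = 0 := by simp only [hg, act_zero S hki, act_zero S hk, hf, act_zero S hy]
  have gW : ∀ w, InW w → g w = w := by
    intro w hw
    set x' := act Q φ k⁻¹ w with hx'
    have h1 : bf x' a = 0 := by rw [hx', ← kv, S.act_bf hki]; exact hw.1
    have h2 : bf x' b = 0 := by rw [hx', ← kw, S.act_bf hki]; exact hw.2
    have h1' : bf (f x') a = 0 := by
      have e : f (a + b) = a := by rw [f_add, hfb, ← hb, add_comm a b, ← add_assoc, v_self, zero_add]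
      rw [← e, f_bf, bf_add_right, h1, h2, add_zero]
    have h2' : bf (f x') b = 0 := by rw [hb, f_bf, h1]
    have hfx : f x' + x' = 0 := by
      have ra : bf (f x' + x') a = 0 := by rw [bf_add_left, h1', h1, add_zero]
      have rb : bf (f x' + x') b = 0 := by rw [bf_add_left, h2', h2, add_zero]
      rcases hR x' with e | e | e | e
      · exact e
      · rw [e, hab] at rb; exact absurd rb one_ne_zero
      · rw [e, bf_symm, hab] at ra; exact absurd ra one_ne_zero
      · rw [e, bf_add_left, hab, bf_self, add_zero] at rb; exact absurd rb one_ne_zero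
    have hfx' : f x' = x' := by
      calc f x' = f x' + x' + x' := by rw [add_assoc, v_self, add_zero]
        _ = x' := by rw [hfx, zero_add]
    simp only [hg, ← hx', hfx']
    rw [hx', S.act_inv_right hk]
  obtain ⟨c, w, hc, hw, rfl⟩ := plane_split x
  rw [hgx, g_add, wfun_add, gW w hw, (rot_fix_iff w).2 hw]
  congr 1
  rcases hc with rfl | rfl | rfl | rfl
  · rw [g0]; exact (rot_fix_iff 0).2 ⟨zero_bf _, zero_bf _⟩ |>.symm
  · rw [gv, rot_v0.1]
  · rw [gw, rot_v0.2]
  · rw [g_add, wfun_add, gv, gw, rot_v0.1, rot_v0.2]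

omit S in
theorem card_modEq_fixed {α : Type*} [Fintype α] [DecidableEq α] (f : α → α) (h : ∀ x, f (f (f x)) = x) :
    Fintype.card α ≡ (Finset.univ.filter fun x => f x = x).card [MOD 3] := by
  haveI : Fact (Nat.Prime 3) := ⟨Nat.prime_three⟩
  let σ : Function.End α := f
  have hσ : σ ^ 3 ^ 1 = 1 := by
    rw [pow_one, pow_succ, pow_two]; exact funext h
  have h1 := Equiv.Perm.card_fixedPoints_modEq hσ
  have h2 : Fintype.card (Function.fixedPoints σ) = (Finset.univ.filter fun x => f x = x).card := by
    rw [Fintype.card_subtype]; rfl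
  rwa [h2] at h1

/-- An element of order three fixing a non-zero singular vector is conjugate to a standard rotation. -/
theorem exists_rot_of_fix {y : G} (hy : y * z = z * y) (h3 : y * y * y = 1) (hyQ : y ∉ Q) {e : V}
    (he : qf e = 0) (he0 : e ≠ 0) (hfe : act Q φ y e = e) :
    ∃ k : G, k * z = z * k ∧ Rot z Q φ r1 (k * y * k⁻¹) := by
  classical
  set f := act Q φ y with hf
  let d : V →+ V := AddMonoidHom.mk' (fun x => f x + x) fun x x' => by
    show f (x + x') + (x + x') = _
    rw [show f (x + x') = f x + f x' from S.act_add hy x x']; abel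
  have hd : ∀ x, d x = f x + x := fun x => rfl
  have hdf : ∀ x, f (d x) = d (f x) := fun x => by
    rw [hd, hd]; exact S.act_add hy _ _
  have hker : ∀ x, d x = 0 ↔ f x = x := fun x => by
    rw [hd]
    exact ⟨fun h => by rw [← add_zero (f x), ← v_self x, ← add_assoc, h, zero_add], fun h => by
      rw [h, v_self]⟩
  have hfix : ∀ r ∈ d.range, f r = r → r = 0 := by
    rintro r ⟨x, rfl⟩ h
    exact (hker x).2 (act_sum S hy h3 x h)
  have horth : ∀ r ∈ d.range, ∀ x, f x = x → bf r x = 0 := by
    rintro r ⟨v, rfl⟩ x hx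
    have h1 : bf (f v) x = bf v x := by
      conv_lhs => rw [← hx]
      exact S.act_bf hy v x
    rw [hd, bf_add_left, h1, z2_self]
  have hprod : Nat.card d.range * Nat.card d.ker = 64 := by
    rw [← Nat.card_congr (QuotientAddGroup.quotientKerEquivRange d).toEquiv,
      ← AddSubgroup.card_eq_card_quotient_mul_card_addSubgroup, Nat.card_eq_fintype_card]
    rfl
  -- the image consists of zero and orbits of length three
  have hmod : Nat.card d.range % 3 = 1 := by
    let F : d.range → d.range := fun r => ⟨f r, by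
      obtain ⟨x, hx⟩ := r.2; exact ⟨f x, by rw [← hdf, hx]⟩⟩
    haveI : Fintype d.range := Fintype.ofFinite _
    have h1 := card_modEq_fixed F fun r => Subtype.ext (act_cube S hy h3 r)
    have h2 : (Finset.univ.filter fun r => F r = r) = {0} := by
      ext r
      simp only [Finset.mem_filter, Finset.mem_univ, true_and, Finset.mem_singleton]
      exact ⟨fun h => Subtype.ext (hfix r r.2 (congrArg Subtype.val h)),
        fun h => by rw [h]; exact Subtype.ext (act_zero S hy)⟩
    rw [h2, Finset.card_singleton] at h1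
    rw [Nat.card_eq_fintype_card]
    exact h1
  have he_ker : e ∈ d.ker := (hker e).2 hfe
  have hker2 : 2 ≤ Nat.card d.ker := by
    haveI : Nontrivial d.ker := ⟨⟨⟨e, he_ker⟩, 0, fun h => he0 (congrArg Subtype.val h)⟩⟩
    exact Finite.one_lt_card
  have hne1 : Nat.card d.range ≠ 1 := fun h => hyQ (S.mem_of_act_id hy fun x => by
    have h1 : d.range = ⊥ := AddSubgroup.card_eq_one.1 h
    have h2 : d x ∈ d.range := ⟨x, rfl⟩
    rw [h1, AddSubgroup.mem_bot] at h2
    exact (hker x).1 h2)
  have hdec : ∀ v, ∃ r ∈ d.range, ∃ x, f x = x ∧ v = r + x := by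
    let F : d.range × d.ker → V := fun p => p.1 + p.2
    have hinj : Function.Injective F := by
      intro p p' h
      have h' : (p.1 : V) + p.2 = p'.1 + p'.2 := h
      have hx : (p.1 : V) + p'.1 = p.2 + p'.2 := by
        calc (p.1 : V) + p'.1 = ((p.1 : V) + p.2) + (p.2 + p'.1) := by
              rw [show ((p.1 : V) + p.2) + (p.2 + p'.1) = p.1 + ((p.2 : V) + p.2) + p'.1 by abel, v_self,
                add_zero]
          _ = (p'.1 + p'.1) + ((p'.2 : V) + p.2) := by rw [h']; abel
          _ = _ := by rw [v_self, zero_add, add_comm]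
      have h0 := hfix _ (add_mem p.1.2 p'.1.2) ((hker _).1 (by rw [hx]; exact add_mem p.2.2 p'.2.2))
      have e1 : (p.1 : V) = p'.1 := by
        calc (p.1 : V) = p.1 + p'.1 + p'.1 := by rw [add_assoc, v_self, add_zero]
          _ = p'.1 := by rw [h0, zero_add]
      rw [e1, add_right_inj] at h'
      exact Prod.ext (Subtype.ext e1) (Subtype.ext h')
    have hb := hinj.bijective_of_nat_card_le (by
      rw [Nat.card_prod (↥d.range) (↥d.ker), hprod, Nat.card_eq_fintype_card]; rfl)
    intro v
    obtain ⟨⟨r, x⟩, rfl⟩ := hb.2 v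
    exact ⟨r, r.2, x, (hker x).1 x.2, rfl⟩
  have hcard4 : Nat.card d.range = 4 := by
    have hdvd : Nat.card d.range ∣ 2 ^ 6 := ⟨_, hprod.symm⟩
    obtain ⟨i, hi, hRi⟩ := (Nat.dvd_prime_pow Nat.prime_two).1 hdvd
    rw [hRi] at hprod hmod hne1 ⊢
    have hi' : i = 2 ∨ i = 4 := by
      interval_cases i <;> omega
    rcases hi' with rfl | rfl
    · norm_num
    · -- the fixed space would be a hyperbolic plane
      exfalso
      have hk4 : Nat.card d.ker = 4 := by omega
      obtain ⟨v, hv⟩ := nondeg e he0
      obtain ⟨r, hr, x, hx, rfl⟩ := hdec v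
      rw [bf_add_right, bf_symm e r, horth r hr e hfe, zero_add] at hv
      have hx0 : x ≠ 0 := fun h => by rw [h, bf_zero] at hv; exact zero_ne_one hv
      have hxe : x ≠ e := fun h => by rw [h, bf_self] at hv; exact zero_ne_one hv
      have hxe' : x + e ≠ 0 := fun h => hxe (by rw [← add_zero x, ← v_self e, ← add_assoc, h, zero_add])
      have hF : (Finset.univ.filter fun v => f v = v) = {0, e, x, x + e} := by
        refine (Finset.eq_of_subset_of_card_le ?_ ?_).symm
        · intro v hv
          simp only [Finset.mem_insert, Finset.mem_singleton] at hv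
          simp only [Finset.mem_filter, Finset.mem_univ, true_and]
          rcases hv with rfl | rfl | rfl | rfl
          · exact act_zero S hy
          · exact hfe
          · exact hx
          · rw [show f (x + e) = f x + f e from S.act_add hy x e, hx, hfe]
        · have h1 : (Finset.univ.filter fun v => f v = v).card = Nat.card d.ker := by
            rw [← Fintype.card_subtype, ← Nat.card_eq_fintype_card]
            exact Nat.card_congr (Equiv.subtypeEquivRight fun v => (hker v).symm)
          rw [h1, hk4, Finset.card_insert_of_notMem, Finset.card_insert_of_notMem,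
            Finset.card_insert_of_notMem, Finset.card_singleton]
          · simp only [Finset.mem_singleton]
            exact fun h => he0 (left_eq_add.1 h)
          · simp only [Finset.mem_insert, Finset.mem_singleton, not_or]
            exact ⟨fun h => hxe h.symm, fun h => hx0 (right_eq_add.1 h)⟩
          · simp only [Finset.mem_insert, Finset.mem_singleton, not_or]
            exact ⟨fun h => he0 h.symm, fun h => hx0 h.symm, fun h => hxe' h.symm⟩
      let F : {v : V // qf v = 0 ∧ v ≠ 0} → {v : V // qf v = 0 ∧ v ≠ 0} := fun v =>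
        ⟨f v, (S.act_qf hy v.1).trans v.2.1, fun h => v.2.2 (act_inj S hy (h.trans (act_zero S hy).symm))⟩
      have h1 := card_modEq_fixed F fun v => Subtype.ext (act_cube S hy h3 v)
      rw [Fintype.card_subtype, count_singular] at h1
      have h2 : (Finset.univ.filter fun v => F v = v).card = 2 := by
        have hq : qf (x + e) = qf x + 1 := by rw [qf_add, he, bf_symm, hv, add_zero]
        rw [← Finset.card_map (Function.Embedding.subtype _)]
        have : (Finset.univ.filter fun v => F v = v).map (Function.Embedding.subtype _) =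
            (Finset.univ.filter fun v => f v = v).filter (fun v => qf v = 0 ∧ v ≠ 0) := by
          ext v
          simp only [Finset.mem_map, Finset.mem_filter, Finset.mem_univ, true_and,
            Function.Embedding.coe_subtype]
          exact ⟨fun ⟨w, hw, hwv⟩ => hwv ▸ ⟨congrArg Subtype.val hw, w.2⟩,
            fun ⟨h, hq⟩ => ⟨⟨v, hq⟩, Subtype.ext h, rfl⟩⟩
        rw [this, hF]
        rcases z2_cases' (qf x) with h | h
        · have : ({0, e, x, x + e} : Finset V).filter (fun v => qf v = 0 ∧ v ≠ 0) = {e, x} := by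
            ext v; simp only [Finset.mem_filter, Finset.mem_insert, Finset.mem_singleton]
            constructor
            · rintro ⟨rfl | rfl | rfl | rfl, h', h''⟩
              · exact absurd rfl h''
              · exact Or.inl rfl
              · exact Or.inr rfl
              · rw [hq, h] at h'; exact absurd h' (by decide)
            · rintro (rfl | rfl)
              · exact ⟨Or.inr (Or.inl rfl), he, he0⟩
              · exact ⟨Or.inr (Or.inr (Or.inl rfl)), h, hx0⟩
          rw [this, Finset.card_pair hxe.symm]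
        · have : ({0, e, x, x + e} : Finset V).filter (fun v => qf v = 0 ∧ v ≠ 0) = {e, x + e} := by
            ext v; simp only [Finset.mem_filter, Finset.mem_insert, Finset.mem_singleton]
            constructor
            · rintro ⟨rfl | rfl | rfl | rfl, h', h''⟩
              · exact absurd rfl h''
              · exact Or.inl rfl
              · rw [h] at h'; exact absurd h' one_ne_zero
              · exact Or.inr rfl
            · rintro (rfl | rfl)
              · exact ⟨Or.inr (Or.inl rfl), he, he0⟩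
              · exact ⟨Or.inr (Or.inr (Or.inr rfl)), by rw [hq, h]; decide, hxe'⟩
          rw [this, Finset.card_pair]
          exact fun h => hx0 (right_eq_add.1 h)
      rw [h2] at h1
      exact absurd h1 (by decide)
  obtain ⟨⟨a, ha⟩, ha0⟩ : ∃ a : d.range, a ≠ 0 := by
    haveI : Nontrivial d.range := Finite.one_lt_card_iff_nontrivial.1 (by omega)
    exact exists_ne 0
  have ha0' : a ≠ 0 := fun h => ha0 (Subtype.ext h)
  have hb : f a ∈ d.range := by
    obtain ⟨x, rfl⟩ := ha; exact ⟨f x, (hdf x).symm⟩
  have hab0 : f a ≠ a := fun h => ha0' (hfix a ha h)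
  have hb0 : f a ≠ 0 := fun h => ha0' (act_inj S hy (h.trans (act_zero S hy).symm))
  have hset : ∀ r ∈ d.range, r = 0 ∨ r = a ∨ r = f a ∨ r = a + f a := by
    intro r hr
    have hsub : ({0, a, f a, a + f a} : Finset V) = Finset.univ.filter fun v => v ∈ d.range := by
      refine Finset.eq_of_subset_of_card_le ?_ ?_
      · intro v hv
        simp only [Finset.mem_insert, Finset.mem_singleton] at hv
        simp only [Finset.mem_filter, Finset.mem_univ, true_and]
        rcases hv with rfl | rfl | rfl | rfl
        exacts [zero_mem _, ha, hb, add_mem ha hb]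
      · rw [← Fintype.card_subtype, ← Nat.card_eq_fintype_card]
        refine hcard4.le.trans (le_of_eq ?_)
        rw [Finset.card_insert_of_notMem, Finset.card_insert_of_notMem, Finset.card_insert_of_notMem,
          Finset.card_singleton]
        · simp only [Finset.mem_singleton]
          exact fun h => ha0' (right_eq_add.1 h)
        · simp only [Finset.mem_insert, Finset.mem_singleton, not_or]
          exact ⟨fun h => hab0 h.symm, fun h => hb0 (left_eq_add.1 h)⟩
        · simp only [Finset.mem_insert, Finset.mem_singleton, not_or]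
          refine ⟨fun h => ha0' h.symm, fun h => hb0 h.symm, fun h => hab0 ?_⟩
          rw [← add_zero (f a), ← v_self a, ← add_assoc, add_comm (f a) a, ← h, zero_add]
    have : r ∈ ({0, a, f a, a + f a} : Finset V) := by
      rw [hsub]; simp only [Finset.mem_filter, Finset.mem_univ, true_and]; exact hr
    simpa using this
  refine exists_rot_of_plane S hy h3 (a := a) ((z2_cases' _).resolve_left fun h => ?_)
    fun x => hset _ ⟨x, rfl⟩
  obtain ⟨v, hv⟩ := nondeg a ha0'
  obtain ⟨r, hr, x, hx, rfl⟩ := hdec v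
  rw [bf_add_right, horth a ha x hx, add_zero] at hv
  rcases hset r hr with rfl | rfl | rfl | rfl
  · rw [bf_zero] at hv; exact zero_ne_one hv
  · rw [bf_self] at hv; exact zero_ne_one hv
  · rw [h] at hv; exact zero_ne_one hv
  · rw [bf_add_right, bf_self, h, add_zero] at hv; exact zero_ne_one hv

/-- The commutator condition. -/
theorem exists_rot_of_commutator {y : G} (hy : y * z = z * y) (h3 : y * y * y = 1)
    (hK : Nat.card ↥⁅Q, zpowers y⁆ = 8) (hKn : ¬ IsMulCommutative ↥⁅Q, zpowers y⁆) :
    ∃ k : G, k * z = z * k ∧ Rot z Q φ r1 (k * y * k⁻¹) := by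
  classical
  set f := act Q φ y with hf
  let d : V →+ V := AddMonoidHom.mk' (fun x => f x + x) fun x x' => by
    show f (x + x') + (x + x') = _
    rw [show f (x + x') = f x + f x' from S.act_add hy x x']; abel
  have hd : ∀ x, d x = f x + x := fun x => rfl
  set K := ⁅Q, zpowers y⁆ with hKdef
  let P : Subgroup G :=
    { carrier := {q | q ∈ Q ∧ φ q ∈ d.range}
      one_mem' := ⟨Q.one_mem, by rw [S.phi_one]; exact zero_mem _⟩
      mul_mem' := fun {a b} h h' => ⟨Q.mul_mem h.1 h'.1, by rw [S.hadd a h.1 b h'.1]; exact add_mem h.2 h'.2⟩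
      inv_mem' := fun {a} h => ⟨Q.inv_mem h.1, by rw [S.phi_inv h.1]; exact h.2⟩ }
  have hKP : K ≤ P := by
    refine commutator_le.2 fun q hq g hg => ?_
    have hgz : g * z = z * g := by
      rcases mem_zpowers_three h3 hg with rfl | rfl | rfl
      exacts [by simp, hy, mul_comm_z hy hy]
    have hn := S.norm hgz (inv_mem hq)
    rw [commutatorElement_def, show q * g * q⁻¹ * g⁻¹ = q * (g * q⁻¹ * g⁻¹) by group]
    refine ⟨mul_mem hq hn, ?_⟩
    rw [S.hadd q hq _ hn, ← S.act_phi hgz (inv_mem hq), S.phi_inv hq, add_comm]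
    rcases mem_zpowers_three h3 hg with rfl | rfl | rfl
    · rw [S.act_of_mem Q.one_mem, v_self]; exact zero_mem _
    · exact ⟨φ q, rfl⟩
    · refine ⟨f (φ q) + φ q, ?_⟩
      rw [hd, S.act_mul hy hy, show f (f (φ q) + φ q) = f (f (φ q)) + f (φ q) from S.act_add hy _ _,
        show f (f (φ q)) + f (φ q) + (f (φ q) + φ q) = f (f (φ q)) + (f (φ q) + f (φ q)) + φ q by abel,
        v_self, add_zero]
  have hsurj : ∀ r ∈ d.range, ∃ q ∈ K, φ q = r := by
    rintro _ ⟨v, rfl⟩
    obtain ⟨q, hq, rfl⟩ := S.hsurj v
    have hm : ⁅q, y⁆ ∈ K := commutator_mem_commutator hq (mem_zpowers y)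
    refine ⟨_, hm, ?_⟩
    rw [commutatorElement_def, show q * y * q⁻¹ * y⁻¹ = q * (y * q⁻¹ * y⁻¹) by group,
      S.hadd q hq _ (S.norm hy (inv_mem hq)), ← S.act_phi hy (inv_mem hq), S.phi_inv hq, add_comm]
    rfl
  obtain ⟨a0, ha0, b0, hb0, hne⟩ : ∃ a ∈ K, ∃ b ∈ K, a * b ≠ b * a := by
    by_contra h
    push Not at h
    exact hKn ⟨⟨fun a b => Subtype.ext (h a a.2 b b.2)⟩⟩
  have hbf : bf (φ a0) (φ b0) = 1 :=
    (z2_cases' _).resolve_left fun h => hne ((S.commute_iff (hKP ha0).1 (hKP hb0).1).2 h)
  have hzK : z ∈ K := by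
    have h : a0 * b0 * a0⁻¹ * b0⁻¹ = z := by
      rw [S.conj_z_of (hKP ha0).1 (hKP hb0).1 hbf, S.commQ (hKP hb0).1, mul_inv_cancel_right]
    rw [← h]
    exact mul_mem (mul_mem (mul_mem ha0 hb0) (inv_mem ha0)) (inv_mem hb0)
  have hcard : Nat.card d.range = 4 := by
    let ψ : ↥K → ↥d.range := fun q => ⟨φ q, (hKP q.2).2⟩
    haveI : Fintype ↥K := Fintype.ofFinite _
    haveI : Fintype ↥d.range := Fintype.ofFinite _
    have h1 : ∀ r : ↥d.range, (Finset.univ.filter fun q : ↥K => ψ q = r).card = 2 := by
      rintro ⟨r, hr⟩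
      obtain ⟨q, hq, e⟩ := hsurj r hr
      rw [Finset.card_eq_two]
      refine ⟨⟨q, hq⟩, ⟨q * z, mul_mem hq hzK⟩,
        fun e' => S.zne (mul_eq_left.1 (congrArg Subtype.val e').symm), ?_⟩
      ext p
      simp only [Finset.mem_filter, Finset.mem_univ, true_and, Finset.mem_insert, Finset.mem_singleton]
      refine ⟨fun h => ?_, ?_⟩
      · rcases S.phi_eq (hKP p.2).1 (hKP hq).1 ((congrArg Subtype.val h).trans e.symm) with e' | e'
        exacts [Or.inl (Subtype.ext e'), Or.inr (Subtype.ext e')]
      · rintro (rfl | rfl)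
        · exact Subtype.ext e
        · exact Subtype.ext ((S.phi_mul_z (hKP hq).1).trans e)
    have h2 := Finset.card_eq_sum_card_fiberwise (f := ψ) (s := (Finset.univ : Finset ↥K))
      (t := Finset.univ) (fun _ _ => Finset.mem_univ _)
    rw [Finset.sum_congr rfl fun r _ => h1 r, Finset.sum_const, Finset.card_univ, Finset.card_univ,
      ← Nat.card_eq_fintype_card, ← Nat.card_eq_fintype_card, hK, smul_eq_mul] at h2
    omega
  have ha : φ a0 ∈ d.range := (hKP ha0).2
  have hb : f (φ a0) ∈ d.range := by
    obtain ⟨v, hv⟩ := ha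
    exact ⟨f v, by rw [← hv, hd, hd]; exact (S.act_add hy _ _).symm⟩
  have ha0' : φ a0 ≠ 0 := fun h => by rw [h, zero_bf] at hbf; exact zero_ne_one hbf
  have hab0 : f (φ a0) ≠ φ a0 := fun h => by
    obtain ⟨v, hv⟩ := ha
    rw [← hv, hd] at h ha0'
    exact ha0' (by rw [show f v = v from act_sum S hy h3 v h, v_self])
  have hb0' : f (φ a0) ≠ 0 := fun h => ha0' (act_inj S hy (h.trans (act_zero S hy).symm))
  have hset : ∀ r ∈ d.range, r = 0 ∨ r = φ a0 ∨ r = f (φ a0) ∨ r = φ a0 + f (φ a0) := by
    intro r hr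
    by_contra hc
    push Not at hc
    have hsum : φ a0 + f (φ a0) ≠ 0 := fun h => hab0 (by
      rw [← zero_add (f (φ a0)), ← v_self (φ a0), add_assoc, h, add_zero])
    have h5 : ({0, φ a0, f (φ a0), φ a0 + f (φ a0), r} : Finset V).card = 5 := by
      rw [Finset.card_insert_of_notMem, Finset.card_insert_of_notMem, Finset.card_insert_of_notMem,
        Finset.card_insert_of_notMem, Finset.card_singleton]
      · simp only [Finset.mem_singleton]; exact fun h => hc.2.2.2 h.symm
      · simp only [Finset.mem_insert, Finset.mem_singleton, not_or]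
        exact ⟨fun h => ha0' (right_eq_add.1 h), fun h => hc.2.2.1 h.symm⟩
      · simp only [Finset.mem_insert, Finset.mem_singleton, not_or]
        exact ⟨fun h => hab0 h.symm, fun h => hb0' (left_eq_add.1 h), fun h => hc.2.1 h.symm⟩
      · simp only [Finset.mem_insert, Finset.mem_singleton, not_or]
        exact ⟨fun h => ha0' h.symm, fun h => hb0' h.symm, fun h => hsum h.symm, fun h => hc.1 h.symm⟩
    have h6 : ({0, φ a0, f (φ a0), φ a0 + f (φ a0), r} : Finset V) ⊆ Finset.univ.filter (· ∈ d.range) := by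
      intro v hv
      simp only [Finset.mem_insert, Finset.mem_singleton] at hv
      simp only [Finset.mem_filter, Finset.mem_univ, true_and]
      rcases hv with rfl | rfl | rfl | rfl | rfl
      exacts [zero_mem _, ha, hb, add_mem ha hb, hr]
    have h7 := Finset.card_le_card h6
    rw [h5, ← Fintype.card_subtype, ← Nat.card_eq_fintype_card] at h7
    have : Nat.card {v : V // v ∈ d.range} = 4 := hcard
    omega
  refine exists_rot_of_plane S hy h3 (a := φ a0) ((z2_cases' _).resolve_left fun h => ?_)
    fun x => hset _ ⟨x, rfl⟩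
  rcases hset _ (hKP hb0).2 with e | e | e | e <;> rw [e] at hbf
  · rw [bf_zero] at hbf; exact zero_ne_one hbf
  · rw [bf_self] at hbf; exact zero_ne_one hbf
  · rw [h] at hbf; exact zero_ne_one hbf
  · rw [bf_add_right, bf_self, h, add_zero] at hbf; exact zero_ne_one hbf

/-- A conjugate of `z` in `Q` centralised by `y` is a conjugate under the centraliser of `y`. -/
theorem exists_fusion (hfus : ∃ g : G, g * z * g⁻¹ ∈ Q ∧ g * z * g⁻¹ ≠ z) {y u : G}
    (hy : Rot z Q φ r1 y) (hu : u ∈ Q) (huu : u * u = 1) (hu1 : u ≠ 1) (huz : u ≠ z)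
    (hyu : y * u = u * y) : ∃ n : G, n * y = y * n ∧ n * z * n⁻¹ = u := by
  obtain ⟨g₀, hg₀, hne⟩ := hfus
  obtain ⟨ψ, ψ', P⟩ := exists_pair S hg₀ hne
  obtain ⟨c, hc⟩ := isConj_iff.1 (P.isConj_of_mem hu huu hu1).symm
  have hzu : c * z * c⁻¹ ∈ Q := hc ▸ hu
  have T := S.map c
  have hzQ' := S.pack.mem_conj hzu
  have hyu' : y * (c * z * c⁻¹) = c * z * c⁻¹ * y := by rw [hc]; exact hyu
  have hyQ' : y ∉ Q.map (MulAut.conj c).toMonoidHom := fun h => by
    obtain ⟨k, hk⟩ := (IsPGroup.of_card (p := 2) (n := 7) (G := ↥Q) (by rw [S.card_Q]; norm_num)).map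
      (MulAut.conj c).toMonoidHom ⟨y, h⟩
    have h2 : y ^ (2 ^ k) = 1 := congrArg Subtype.val hk
    have hy3 : y ^ 3 = 1 := by rw [pow_succ, pow_two]; exact hy.cube
    have := Nat.eq_one_of_dvd_coprimes ((by norm_num : Nat.Coprime 3 2).pow_right k)
      (orderOf_dvd_of_pow_eq_one hy3) (orderOf_dvd_of_pow_eq_one h2)
    rw [orderOf_eq_one_iff] at this
    have h0 := hy.act_eq v0
    rw [this, S.act_of_mem Q.one_mem, rot_v0.1] at h0
    exact absurd h0 (by decide +kernel)
  have he := T.sing_of_invol hzQ' S.zz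
  have he0 : (fun x => φ (c⁻¹ * x * c)) z ≠ 0 := fun h => by
    rcases T.hzero z hzQ' h with e | e
    · exact S.zne e
    · exact huz (by rw [← hc, ← e])
  obtain ⟨k, hk, hk'⟩ := exists_rot_of_fix T hyu' hy.cube hyQ' he he0 (by
    rw [T.act_phi hyu' hzQ', hy.comm, mul_inv_cancel_right])
  have hc' : Rot (c * z * c⁻¹) (Q.map (MulAut.conj c).toMonoidHom) (fun x => φ (c⁻¹ * x * c)) r1
      (c * y * c⁻¹) := by
    have hcomm : c * y * c⁻¹ * (c * z * c⁻¹) = c * z * c⁻¹ * (c * y * c⁻¹) := by
      calc c * y * c⁻¹ * (c * z * c⁻¹) = c * (y * z) * c⁻¹ := by group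
        _ = _ := by rw [hy.comm]; group
    refine ⟨hcomm, cube_conj hy.cube, T.act_eq hcomm ?_⟩
    rintro _ ⟨q, hq, rfl⟩
    show φ (c⁻¹ * (c * y * c⁻¹ * (c * q * c⁻¹) * (c * y * c⁻¹)⁻¹) * c) = wfun r1 (φ (c⁻¹ * (c * q * c⁻¹) * c))
    rw [show c⁻¹ * (c * y * c⁻¹ * (c * q * c⁻¹) * (c * y * c⁻¹)⁻¹) * c = y * q * y⁻¹ by group,
      show c⁻¹ * (c * q * c⁻¹) * c = q by group, ← S.act_phi hy.comm hq, hy.act_eq]
  obtain ⟨q, hq, hq'⟩ := hc'.exists_conj T hk'
  refine ⟨k⁻¹ * q * c, ?_, ?_⟩
  · apply mul_inv_eq_iff_eq_mul.1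
    calc k⁻¹ * q * c * y * (k⁻¹ * q * c)⁻¹ = k⁻¹ * (q * (c * y * c⁻¹) * q⁻¹) * k := by group
      _ = y := by rw [hq']; group
  · have h1 : q * (c * z * c⁻¹) = c * z * c⁻¹ * q := T.commQ hq
    calc k⁻¹ * q * c * z * (k⁻¹ * q * c)⁻¹ = k⁻¹ * (q * (c * z * c⁻¹)) * q⁻¹ * k := by group
      _ = k⁻¹ * (c * z * c⁻¹) * k := by rw [h1]; group
      _ = c * z * c⁻¹ := by rw [inv_comm_z hk, inv_mul_cancel_right]
      _ = u := hc

end CfsgLib.InvChar.SuzY
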