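import Cfsg.Agent.Lib.InvChar.SuzY.Local
import Cfsg.Agent.Lib.InvChar.SuzY.Plane
import Cfsg.Agent.Lib.U43.LocalMain
import Cfsg.Agent.Lib.U43.LocalCom
import Cfsg.Agent.Lib.U43.HExists
import Cfsg.Agent.Lib.U43.Inst
import Cfsg.Agent.Lib.Comp.Local

/-!
The quotient of the centraliser of `y` by `⟨y⟩` satisfies the hypotheses of the recognition of `PSU₄(3)`.
-/

set_option autoImplicit false
set_option linter.unusedSectionVars false
set_option linter.style.haveILetI false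
set_option synthInstance.maxSize 4096
set_option synthInstance.maxHeartbeats 200000

namespace CfsgLib.InvChar.SuzY

open Subgroup CfsgLib.InvChar.SuzType

variable {G : Type*} [Group G] [Finite G] {z : G} {Q : Subgroup G} {φ : G → V}

instance zpowers_subgroupOf_normal (y : G) :
    ((zpowers y).subgroupOf (centralizer ({y} : Set G))).Normal :=
  ⟨fun n hn g => by
    rw [mem_subgroupOf] at hn ⊢
    obtain ⟨k, hk⟩ := hn
    have hg : Commute (g : G) y := mem_centralizer_singleton_iff.1 g.2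
    show (g : G) * (n : G) * (g : G)⁻¹ ∈ zpowers y
    rw [← hk]
    show (g : G) * y ^ k * (g : G)⁻¹ ∈ zpowers y
    rw [(hg.zpow_right k).eq, mul_inv_cancel_right]
    exact zpow_mem_zpowers y k⟩

theorem nine_fix : ∀ r ∈ nineWords, wfun r v0 = v0 := by decide +kernel

theorem qtwo_check : ∀ v : V, InP2 v → (wfun r2 v = v → v = 0) ∧
    (wfun r2 (code 3) ≠ code 3 ∧ wfun r2 (wfun r2 (code 3)) ≠ code 3) := by decide +kernel

namespace Std

variable {y y2 y3 : G} (T : Std z Q φ y y2 y3)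
include T

theorem act_fix_of_mem {h : G} (h1 : h ∈ T.H1 ⊔ T.H2) : h * z = z * h ∧ act Q φ h v0 = v0 := by
  let P : Subgroup G :=
    { carrier := {g | g * z = z * g ∧ act Q φ g v0 = v0}
      one_mem' := ⟨by simp, T.S.act_of_mem Q.one_mem _⟩
      mul_mem' := fun {a b} ha hb => ⟨mul_comm_z ha.1 hb.1, by rw [T.S.act_mul ha.1 hb.1, hb.2, ha.2]⟩
      inv_mem' := fun {a} ha => ⟨inv_comm_z ha.1, by conv_lhs => rw [← ha.2, T.S.act_inv_left ha.1]⟩ }
  refine (sup_le (sup_le (fun q hq => ?_) (zpowers_le.2 ?_)) (sup_le (fun q hq => ?_) (zpowers_le.2 ?_)) :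
    T.H1 ⊔ T.H2 ≤ P) h1
  · exact ⟨T.S.commQ hq.1, T.S.act_of_mem hq.1 _⟩
  · exact ⟨T.h2.comm, (T.h2.act_eq _).trans (nine_fix r2 (by decide))⟩
  · exact ⟨T.S.commQ hq.1, T.S.act_of_mem hq.1 _⟩
  · exact ⟨T.h3.comm, (T.h3.act_eq _).trans (nine_fix r3 (by decide))⟩

theorem zpowers_fix {g : G} (hg : g ∈ zpowers y) (hf : act Q φ g v0 = v0) : g = 1 := by
  rcases mem_zpowers_three T.h1.cube hg with rfl | rfl | rfl
  · rfl
  · rw [T.h1.act_eq, rot_v0.1] at hf
    exact absurd hf (by decide +kernel)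
  · rw [T.S.act_mul T.h1.comm T.h1.comm, T.h1.act_eq, T.h1.act_eq, rot_v0.1, rot_v0.2] at hf
    exact absurd hf (by decide +kernel)

theorem mem_inf {t : G} (h1 : t ∈ T.H1) (h2 : t ∈ T.H2) : t = 1 ∨ t = z := by
  obtain ⟨q, hq, x, hx, rfl⟩ := (sup_zpowers_form (fun x hx a ha => T.conjQ2 hx ha) fun x hx hxN =>
    (rot_not_mem T.S T.h2 rot2_sq.1).2 x hx hxN.1).1 t h1
  have c1 : q * x * y2 = y2 * (q * x) := (T.H_comm (mem_sup_right (mem_zpowers y2)) h2).symm
  have c2 : Commute x y2 := by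
    obtain ⟨k, rfl⟩ := hx; exact (Commute.refl y2).zpow_left k
  have c3 : y2 * q = q * y2 := by
    have : q * y2 * x = y2 * q * x := by
      rw [mul_assoc, ← c2.eq, ← mul_assoc, c1, mul_assoc]
    exact (mul_right_cancel this).symm
  have h0 := T.S.hzero q hq.1 ((rot_fix_plane _).1 hq.2 (fix_of_comm T.S T.h2 hq.1 c3))
  obtain ⟨a, ha, ea⟩ := T.S.hsurj (code 3)
  have haQ2 : a ∈ T.Q2 := ⟨ha, ea ▸ planes_noncomm.1⟩
  have c4 : Commute x a := by
    have := T.H_comm (mem_sup_left haQ2) h2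
    rcases h0 with h0 | h0 <;> rw [h0] at this
    · simpa [Commute, SemiconjBy] using this.symm
    · have hxz : Commute x z := mem_centralizer_singleton_iff.1 (T.H1_le_centralizers (mem_sup_right hx)).2
      have haz : Commute a z := T.S.commQ ha
      have h3 : a * (z * x) = z * x * a := this
      rw [← mul_assoc, haz.eq, mul_assoc, mul_assoc, mul_right_inj] at h3
      exact h3.symm
  rcases mem_zpowers_three T.h2.cube hx with rfl | rfl | rfl
  · rw [mul_one]; exact h0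
  · exfalso
    have := fix_of_comm T.S T.h2 ha c4
    rw [ea] at this
    exact (qtwo_check 0 (Or.inl rfl)).2.1 this
  · exfalso
    have hcomm : y2 * y2 * a = a * (y2 * y2) := c4
    have := T.S.act_phi (mul_comm_z T.h2.comm T.h2.comm) ha
    rw [hcomm, mul_inv_cancel_right, T.S.act_mul T.h2.comm T.h2.comm, T.h2.act_eq, T.h2.act_eq, ea] at this
    exact (qtwo_check 0 (Or.inl rfl)).2.2 this

theorem cube_mem {h : G} (hh : h * z = z * h) (hy : h * y = y * h) (h3 : h * h * h = 1)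
    (hf : act Q φ h v0 = v0) : h ∈ T.H1 ⊔ T.H2 := by
  have hh2 := mul_comm_z hh hh
  have hy2 : h * h * y = y * (h * h) := ((show Commute h y from hy).mul_left (show Commute h y from hy)).eq
  have hm : h ∈ zpowers y ⊔ (T.H1 ⊔ T.H2) := by
    have := T.sq_mem hh2 hy2
    rwa [show h * h * (h * h) = h * h * h * h by group, h3, one_mul] at this
  obtain ⟨g, hg, j, hj, rfl⟩ : ∃ g ∈ zpowers y, ∃ j ∈ T.H1 ⊔ T.H2, h = g * j := by
    have hle : zpowers y ≤ normalizer ((T.H1 ⊔ T.H2 : Subgroup G) : Set G) := zpowers_le.2 (by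
      rw [mem_normalizer_iff]
      intro j
      have hc : ∀ j ∈ T.H1 ⊔ T.H2, y * j * y⁻¹ = j := fun j hj => by
        rw [← mem_centralizer_singleton_iff.1 ((sup_le T.H1_le_centralizers T.H2_le_centralizers) hj).1,
          mul_inv_cancel_right]
      refine ⟨fun hj => by rwa [hc j hj], fun hj => ?_⟩
      have : j = y * j * y⁻¹ := by
        have h' := hc _ hj
        calc j = y⁻¹ * (y * j * y⁻¹) * y := by group
          _ = y⁻¹ * (y * (y * j * y⁻¹) * y⁻¹) * y := by rw [h']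
          _ = _ := by group
      rwa [this])
    rw [← SetLike.mem_coe, coe_mul_of_left_le_normalizer_right _ _ hle] at hm
    obtain ⟨g, hg, j, hj, e⟩ := hm
    exact ⟨g, hg, j, hj, e.symm⟩
  obtain ⟨hjz, hjf⟩ := T.act_fix_of_mem hj
  have hgz : g * z = z * g := by
    obtain ⟨k, rfl⟩ := hg; exact ((show Commute y z from T.h1.comm).zpow_left k).eq
  rw [T.S.act_mul hgz hjz, hjf] at hf
  rw [T.zpowers_fix hg hf, one_mul]
  exact hj

/-- An element of two-power order of the product of the two factors lies in the centraliser of `y` in `Q`. -/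
theorem mem_W_of_pow {j : G} (hj : j ∈ T.H1 ⊔ T.H2) {a : ℕ} (ha : j ^ (2 ^ a) = 1) : j ∈ T.W := by
  have hle : T.H1 ⊔ T.H2 ≤ centralizer ({y} : Set G) ⊓ centralizer ({z} : Set G) :=
    sup_le T.H1_le_centralizers T.H2_le_centralizers
  have hy : Commute j y := mem_centralizer_singleton_iff.1 (hle hj).1
  have hz : j * z = z * j := mem_centralizer_singleton_iff.1 (hle hj).2
  obtain ⟨q₁, hq₁, q₂, hq₂, rfl⟩ : ∃ a ∈ T.H1, ∃ b ∈ T.H2, j = a * b := by
    have hn : T.H1 ≤ normalizer (T.H2 : Set G) := fun a ha => by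
      rw [mem_normalizer_iff]
      intro b
      refine ⟨fun hb => by rwa [T.H_comm ha hb, mul_inv_cancel_right], fun hb => ?_⟩
      have := T.H_comm ha hb
      have e : b = a * b * a⁻¹ := by
        calc b = a⁻¹ * (a * b * a⁻¹) * a := by group
          _ = a⁻¹ * (a * (a * b * a⁻¹)) := by rw [this]; group
          _ = _ := by group
      rwa [e]
    rw [← SetLike.mem_coe, coe_mul_of_left_le_normalizer_right _ _ hn] at hj
    obtain ⟨a, ha, b, hb, e⟩ := hj
    exact ⟨a, ha, b, hb, e.symm⟩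
  obtain ⟨a₁, ha₁, x₁, hx₁, rfl⟩ := (sup_zpowers_form (fun x hx a ha => T.conjQ2 hx ha) fun x hx hxN =>
    (rot_not_mem T.S T.h2 rot2_sq.1).2 x hx hxN.1).1 q₁ hq₁
  obtain ⟨a₂, ha₂, x₂, hx₂, rfl⟩ := (sup_zpowers_form (fun x hx a ha => T.conjQ3 hx ha) fun x hx hxN =>
    (rot_not_mem T.S T.h3 rot2_sq.2.2.1).2 x hx hxN.1).1 q₂ hq₂
  have hxa : x₁ * a₂ = a₂ * x₁ := T.H_comm (mem_sup_right hx₁) (mem_sup_left ha₂)
  set c := x₁ * x₂ with hc
  have hcx : Commute x₁ x₂ := T.H_comm (mem_sup_right hx₁) (mem_sup_right hx₂)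
  have e0 : a₁ * x₁ * (a₂ * x₂) = a₁ * a₂ * c := by
    rw [hc, mul_assoc a₁ x₁, ← mul_assoc x₁, hxa]; group
  rw [e0] at ha hy hz hj ⊢
  have hW : a₁ * a₂ ∈ T.W := mul_mem (T.Q2_le ha₁) (T.Q3_le ha₂)
  have hcz : c * z = z * c := mul_comm_z
    (mem_centralizer_singleton_iff.1 (T.H1_le_centralizers (mem_sup_right hx₁)).2)
    (mem_centralizer_singleton_iff.1 (T.H2_le_centralizers (mem_sup_right hx₂)).2)
  have hc3 : c ^ 3 = 1 := by
    rw [hc, hcx.mul_pow]
    obtain ⟨k, rfl⟩ := hx₁; obtain ⟨l, rfl⟩ := hx₂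
    have h2 : y2 ^ (3 : ℕ) = 1 := by rw [pow_succ, pow_two]; exact T.h2.cube
    have h3 : y3 ^ (3 : ℕ) = 1 := by rw [pow_succ, pow_two]; exact T.h3.cube
    show (y2 ^ k) ^ 3 * (y3 ^ l) ^ 3 = 1
    rw [← zpow_natCast (y2 ^ k), ← zpow_natCast (y3 ^ l), ← zpow_mul, ← zpow_mul, mul_comm k, mul_comm l,
      zpow_mul, zpow_mul, zpow_natCast, zpow_natCast, h2, h3, one_zpow, one_zpow, one_mul]
  -- modulo `Q` the element is `c`
  let C := centralizer ({z} : Set G)
  haveI : (Q.subgroupOf C).Normal := normal_subgroupOf_of_le_normalizer T.S.pack.norm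
  have hcC : c ∈ C := mem_centralizer_singleton_iff.2 hcz
  have hqC : a₁ * a₂ ∈ C := mem_centralizer_singleton_iff.2 (T.S.commQ hW.1)
  let π := QuotientGroup.mk' (Q.subgroupOf C)
  have hπ : π (⟨a₁ * a₂, hqC⟩ * ⟨c, hcC⟩) = π ⟨c, hcC⟩ := by
    rw [map_mul, show π ⟨a₁ * a₂, hqC⟩ = 1 from (QuotientGroup.eq_one_iff _).2 (mem_subgroupOf.2 hW.1),
      one_mul]
  have h2 : (π ⟨c, hcC⟩) ^ (2 ^ a) = 1 := by
    rw [← hπ, ← map_pow, show (⟨a₁ * a₂, hqC⟩ * ⟨c, hcC⟩ : ↥C) ^ (2 ^ a) = 1 from Subtype.ext ha, map_one]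
  have h3 : (π ⟨c, hcC⟩) ^ 3 = 1 := by
    rw [← map_pow, show (⟨c, hcC⟩ : ↥C) ^ 3 = 1 from Subtype.ext hc3, map_one]
  have hone := Nat.eq_one_of_dvd_coprimes ((by norm_num : Nat.Coprime 3 2).pow_right a)
    (orderOf_dvd_of_pow_eq_one h3) (orderOf_dvd_of_pow_eq_one h2)
  rw [orderOf_eq_one_iff, QuotientGroup.mk'_apply, QuotientGroup.eq_one_iff, mem_subgroupOf] at hone
  exact T.mem_W.2 ⟨mul_mem hW.1 hone, hy.eq.symm⟩

theorem pow_four {q : G} (hq : q ∈ Q) : q ^ 4 = 1 := by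
  rw [show q ^ 4 = q * q * (q * q) by simp [pow_succ, mul_assoc], T.S.hsq q hq]
  unfold zp; split_ifs <;> simp [T.S.zz]

theorem eq_of_mul {a b g : G} (hg : g ∈ zpowers y) (hc : a * y = y * a) (ha : a ^ 4 = 1) (hb : b ^ 4 = 1)
    (e : b = a * g) : g = 1 := by
  have hag : Commute a g := by
    obtain ⟨k, rfl⟩ := hg; exact (show Commute a y from hc).zpow_right k
  rw [e, hag.mul_pow, ha, one_mul] at hb
  rcases mem_zpowers_three T.h1.cube hg with h | h | h <;> rw [h] at hb ⊢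
  · calc y = y * y * y * y := by rw [T.h1.cube, one_mul]
      _ = 1 := by rw [← hb]; simp [pow_succ, mul_assoc]
  · calc y * y = (y * y * y) * (y * y * y) * (y * y) := by rw [T.h1.cube]; group
      _ = (y * y) ^ 4 := by simp [pow_succ, mul_assoc]
      _ = 1 := hb

/-- The quotient of the centraliser of `y` by `⟨y⟩` is of unitary type. -/
theorem exists_rels (hfus : ∃ g : G, g * z * g⁻¹ ∈ Q ∧ g * z * g⁻¹ ≠ z)
    (hzC : z ∈ centralizer ({y} : Set G)) :
    ∃ f : ℕ → ↥(centralizer ({y} : Set G)) ⧸ (zpowers y).subgroupOf (centralizer ({y} : Set G)),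
      U43.Rels (QuotientGroup.mk' _ ⟨z, hzC⟩) f ∧
      orderOf (QuotientGroup.mk' ((zpowers y).subgroupOf (centralizer ({y} : Set G))) ⟨z, hzC⟩) = 2 ∧
      Nat.card ↥(centralizer ({QuotientGroup.mk' ((zpowers y).subgroupOf (centralizer ({y} : Set G))) ⟨z, hzC⟩} :
        Set _)) = 1152 ∧
      IsPGroup 2 (Cfsg.generalizedFittingSubgroup ↥(centralizer ({QuotientGroup.mk'
        ((zpowers y).subgroupOf (centralizer ({y} : Set G))) ⟨z, hzC⟩} : Set _))) := by
  classical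
  haveI : Fact (Nat.Prime 2) := ⟨Nat.prime_two⟩
  let C := centralizer ({y} : Set G)
  let π := QuotientGroup.mk' ((zpowers y).subgroupOf C)
  let zX := π ⟨z, hzC⟩
  let CX := centralizer ({zX} : Set (↥C ⧸ (zpowers y).subgroupOf C))
  have hπ : ∀ a b : ↥C, π a = π b → ∃ g ∈ zpowers y, (b : G) = a * g := fun a b e =>
    ⟨(a : G)⁻¹ * b, mem_subgroupOf.1 (QuotientGroup.eq.1 e), (mul_inv_cancel_left _ _).symm⟩
  have hz4 : z ^ 4 = 1 := T.pow_four T.S.zQ
  have hcy : ∀ a : ↥C, (a : G) * y = y * a := fun a => mem_centralizer_singleton_iff.1 a.2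
  have hzX : orderOf zX = 2 := orderOf_eq_prime
    (by rw [← map_pow, show (⟨z, hzC⟩ : ↥C) ^ 2 = 1 from Subtype.ext (by
      rw [pow_two]; exact T.S.zz), map_one])
    fun e => by
      obtain ⟨g, hg, e'⟩ := hπ 1 ⟨z, hzC⟩ (by rw [map_one]; exact e.symm)
      have := T.eq_of_mul hg (hcy 1) (one_pow 4) hz4 e'
      rw [this, mul_one] at e'
      exact T.S.zne e'
  -- the map from the centraliser of `y` and `z`
  let M := C ⊓ centralizer ({z} : Set G)
  let π₀ : ↥M →* ↥C ⧸ (zpowers y).subgroupOf C := π.comp (inclusion inf_le_left)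
  have hmemCX : ∀ m : ↥M, π₀ m ∈ CX := fun m => mem_centralizer_singleton_iff.2 (by
    show π _ * π _ = π _ * π _
    rw [← map_mul, ← map_mul]
    exact congrArg π (Subtype.ext (mem_centralizer_singleton_iff.1 m.2.2)))
  let π' : ↥M →* ↥CX := π₀.codRestrict CX hmemCX
  have hπ'c : ∀ m : ↥M, ((π' m : ↥CX) : ↥C ⧸ _) = π ⟨m, m.2.1⟩ := fun m => rfl
  have lift : ∀ x : ↥CX, ∃ m : ↥M, π' m = x := by
    rintro ⟨x, hx⟩
    obtain ⟨⟨h, hhC⟩, rfl⟩ := QuotientGroup.mk'_surjective _ x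
    have e : π ⟨z, hzC⟩ = π (⟨h, hhC⟩ * ⟨z, hzC⟩ * ⟨h, hhC⟩⁻¹) := by
      rw [map_mul, map_mul, map_inv, eq_mul_inv_iff_mul_eq]
      exact (mem_centralizer_singleton_iff.1 hx).symm
    obtain ⟨g, hg, e'⟩ := hπ _ _ e
    have e'' : h * z * h⁻¹ = z * g := e'
    have h4 : (h * z * h⁻¹) ^ 4 = 1 := by rw [conj_pow, hz4]; group
    have := T.eq_of_mul hg (hcy ⟨z, hzC⟩) hz4 h4 e''
    rw [this, mul_one, mul_inv_eq_iff_eq_mul] at e''
    exact ⟨⟨h, hhC, mem_centralizer_singleton_iff.2 e''⟩, Subtype.ext rfl⟩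
  have hyM : y ∈ M := ⟨mem_centralizer_singleton_iff.2 rfl, mem_centralizer_singleton_iff.2 T.h1.comm⟩
  have hkerM : π'.ker = (zpowers y).subgroupOf M := by
    ext m
    rw [MonoidHom.mem_ker, mem_subgroupOf, ← Subtype.coe_inj, hπ'c]
    show ((⟨m, m.2.1⟩ : ↥C) : ↥C ⧸ (zpowers y).subgroupOf C) = 1 ↔ _
    rw [QuotientGroup.eq_one_iff, mem_subgroupOf]
  have hcard : Nat.card ↥CX = 1152 := by
    have hy1 : y ≠ 1 := fun e => by
      have := T.h1.act_eq v0
      rw [e, T.S.act_of_mem Q.one_mem, rot_v0.1] at this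
      exact absurd this (by decide +kernel)
    have h1 := card_eq_card_quotient_mul_card_subgroup π'.ker
    rw [Nat.card_congr (QuotientGroup.quotientKerEquivOfSurjective π' fun x => lift x).toEquiv, hkerM,
      Nat.card_congr (subgroupOfEquivOfLe (zpowers_le.2 hyM)).toEquiv, Nat.card_zpowers,
      orderOf_three T.h1.cube hy1, T.card_cent] at h1
    omega
  -- the product of the two factors maps injectively
  let J := T.H1 ⊔ T.H2
  have hJM : J ≤ M := sup_le T.H1_le_centralizers T.H2_le_centralizers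
  let ι : ↥J →* ↥CX := π'.comp (inclusion hJM)
  have hι : Function.Injective ι := (injective_iff_map_eq_one ι).2 fun j hj => by
    have hj' : inclusion hJM j ∈ π'.ker := hj
    rw [hkerM, mem_subgroupOf] at hj'
    exact Subtype.ext (T.zpowers_fix hj' (T.act_fix_of_mem j.2).2)
  let H1X := (T.H1.subgroupOf J).map ι
  let H2X := (T.H2.subgroupOf J).map ι
  have hrange : H1X ⊔ H2X = ι.range := by
    rw [← Subgroup.map_sup, ← subgroupOf_sup le_sup_left le_sup_right, subgroupOf_self, MonoidHom.range_eq_map]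
  obtain ⟨⟨e1⟩, -, -⟩ := T.sl_H1
  obtain ⟨⟨e2⟩, -, -⟩ := T.sl_H2
  let i1 : ↥T.H1 ≃* ↥H1X :=
    (subgroupOfEquivOfLe (le_sup_left : T.H1 ≤ J)).symm.trans ((T.H1.subgroupOf J).equivMapOfInjective ι hι)
  let i2 : ↥T.H2 ≃* ↥H2X :=
    (subgroupOfEquivOfLe (le_sup_right : T.H2 ≤ J)).symm.trans ((T.H2.subgroupOf J).equivMapOfInjective ι hι)
  -- elements of odd order
  have hsq : ∀ x : ↥CX, x * x ∈ ι.range := by
    intro x
    obtain ⟨m, rfl⟩ := lift x
    have hm := T.sq_mem (mem_centralizer_singleton_iff.1 m.2.2) (hcy ⟨m, m.2.1⟩)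
    let R : Subgroup G := (ι.range.comap π').map M.subtype
    have hR : zpowers y ⊔ J ≤ R := by
      refine sup_le (fun g hg => ?_) fun g hg => ⟨⟨g, hJM hg⟩, ⟨⟨g, hg⟩, rfl⟩, rfl⟩
      refine ⟨⟨g, zpowers_le.2 hyM hg⟩, ?_, rfl⟩
      show π' _ ∈ ι.range
      rw [show π' ⟨g, zpowers_le.2 hyM hg⟩ = 1 from by
        rw [← MonoidHom.mem_ker, hkerM, mem_subgroupOf]; exact hg]
      exact one_mem _
    obtain ⟨m', hm', e⟩ := hR hm
    rw [← map_mul, show m * m = m' from Subtype.ext e.symm]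
    exact hm'
  have hodd : H1X ⊔ H2X = closure {x : ↥CX | Odd (orderOf x)} := by
    refine le_antisymm ?_ ((closure_le _).2 fun x hx => ?_)
    · have key : ∀ (K : Subgroup ↥CX), (U43.SL23 ≃* ↥K) → K ≤ closure {x : ↥CX | Odd (orderOf x)} :=
        fun K i x hx => by
          suffices ∀ w : U43.SL23, ((i w : ↥K) : ↥CX) ∈ closure {x : ↥CX | Odd (orderOf x)} by
            have := this (i.symm ⟨x, hx⟩)
            rwa [MulEquiv.apply_symm_apply] at this
          refine U43.sl_three (fun w hw => subset_closure ?_) fun u v hu hv => by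
            rw [map_mul, Subgroup.coe_mul]; exact mul_mem hu hv
          show Odd (orderOf ((i w : ↥K) : ↥CX))
          rw [Subgroup.orderOf_coe, MulEquiv.orderOf_eq]
          have : orderOf w ∣ 3 := orderOf_dvd_of_pow_eq_one (by
            rw [pow_succ', pow_two]; exact hw)
          rcases (Nat.dvd_prime Nat.prime_three).1 this with e | e <;> rw [e] <;> decide
      exact sup_le (key _ (e1.symm.trans i1)) (key _ (e2.symm.trans i2))
    · rw [hrange]
      obtain ⟨k, hk⟩ := hx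
      have : x = (x * x) ^ (k + 1) := by
        rw [← pow_two, ← pow_mul, show 2 * (k + 1) = (2 * k + 1) + 1 by ring, pow_succ, ← hk,
          pow_orderOf_eq_one, one_mul]
      rw [this]
      exact pow_mem (hsq x) _
  have hcomm : ∀ a ∈ H1X, ∀ b ∈ H2X, a * b = b * a := by
    rintro _ ⟨a, ha, rfl⟩ _ ⟨b, hb, rfl⟩
    rw [← map_mul, ← map_mul]
    exact congrArg ι (Subtype.ext (T.H_comm ha hb))
  have hn : ∀ A B : Subgroup ↥CX, (∀ a ∈ A, ∀ b ∈ B, a * b = b * a) → (A.subgroupOf (A ⊔ B)).Normal := by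
    intro A B h
    refine normal_subgroupOf_of_le_normalizer (sup_le le_normalizer fun b hb => ?_)
    rw [mem_normalizer_iff]
    intro a
    refine ⟨fun ha => by rwa [← h a ha b hb, mul_inv_cancel_right], fun ha => ?_⟩
    have e := h _ ha b hb
    have : a = b * a * b⁻¹ := by
      calc a = b⁻¹ * (b * a * b⁻¹ * b) := by group
        _ = _ := by rw [e]; group
    rwa [this]
  have hn1 := hn H1X H2X hcomm
  have hn2 : (H2X.subgroupOf (H1X ⊔ H2X)).Normal := by
    rw [sup_comm]; exact hn H2X H1X fun a ha b hb => (hcomm b hb a ha).symm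
  have hzJ : z ∈ J := mem_sup_left (mem_sup_left T.zQ2)
  have hmeet : (H1X ⊓ H2X).map CX.subtype = zpowers zX := by
    refine le_antisymm ?_ (zpowers_le.2 ⟨ι ⟨z, hzJ⟩, ⟨⟨_, mem_sup_left T.zQ2, rfl⟩,
      ⟨_, mem_sup_left T.zQ3, rfl⟩⟩, rfl⟩)
    rintro _ ⟨x, ⟨⟨a, ha, rfl⟩, b, hb, e⟩, rfl⟩
    rw [hι e] at hb
    rcases T.mem_inf ha hb with e' | e'
    · rw [show a = 1 from Subtype.ext e', map_one, map_one]; exact one_mem _
    · rw [show a = ⟨z, hzJ⟩ from Subtype.ext e']; exact mem_zpowers _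
  -- the two-core
  let QX := (T.W.subgroupOf J).map ι
  have hQXS : QX ≤ H1X ⊔ H2X := by rw [hrange]; exact map_le_range _ _
  have hQXp : IsPGroup 2 QX := IsPGroup.map ((IsPGroup.of_card (n := 5) (by
    rw [T.card_W]; norm_num)).of_equiv (subgroupOfEquivOfLe T.W_le).symm) ι
  have htwo : ∀ x ∈ H1X ⊔ H2X, ∀ a : ℕ, x ^ (2 ^ a) = 1 → x ∈ QX := by
    intro x hx a ha
    rw [hrange] at hx
    obtain ⟨j, rfl⟩ := hx
    rw [← map_pow, ← map_one ι] at ha
    exact ⟨j, mem_subgroupOf.2 (T.mem_W_of_pow j.2 (congrArg Subtype.val (hι ha))), rfl⟩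
  have hQXn : QX.Normal := by
    refine ⟨fun n hn x => ?_⟩
    obtain ⟨m, rfl⟩ := lift x
    obtain ⟨w, hw, rfl⟩ := hn
    have hmz := mem_centralizer_singleton_iff.1 m.2.2
    have hw' : (m : G) * w * (m : G)⁻¹ ∈ T.W :=
      T.mem_W.2 ⟨T.S.norm hmz (T.mem_W.1 hw).1, (Commute.mul_right (Commute.mul_right
        (show Commute y m from (hcy ⟨m, m.2.1⟩).symm) (T.mem_W.1 hw).2)
        (show Commute y m from (hcy ⟨m, m.2.1⟩).symm).inv_right).eq⟩
    refine ⟨⟨_, T.W_le hw'⟩, mem_subgroupOf.2 hw', ?_⟩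
    show π' (inclusion hJM _) = π' m * π' (inclusion hJM w) * (π' m)⁻¹
    rw [← map_mul, ← map_inv, ← map_mul]
    exact congrArg π' (Subtype.ext rfl)
  have hQX : QX = (Cfsg.pCore 2 ↥(H1X ⊔ H2X)).map (H1X ⊔ H2X).subtype := by
    refine le_antisymm (fun x hx => ?_) ?_
    · refine ⟨⟨x, hQXS hx⟩, Amalgam.le_pCore (N := QX.subgroupOf (H1X ⊔ H2X)) ?_ ?_ (mem_subgroupOf.2 hx), rfl⟩
      · exact hQXn.subgroupOf _
      · exact hQXp.of_equiv (subgroupOfEquivOfLe hQXS).symm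
    · rintro _ ⟨p, hp, rfl⟩
      obtain ⟨a, ha⟩ := (Comp.isPGroup_pCore (p := 2) (G := ↥(H1X ⊔ H2X))) ⟨p, hp⟩
      refine htwo _ p.2 a ?_
      show (p : ↥CX) ^ _ = 1
      rw [← SubmonoidClass.coe_pow, show p ^ (2 ^ a) = 1 from congrArg Subtype.val ha]
      rfl
  have hcentQ : centralizer (QX : Set ↥CX) ≤ QX := by
    intro x hx
    obtain ⟨m, rfl⟩ := lift x
    have hmz := mem_centralizer_singleton_iff.1 m.2.2
    have hmy := hcy ⟨m, m.2.1⟩
    have hcw : ∀ w ∈ T.W, (m : G) * w * (m : G)⁻¹ = w := by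
      intro w hw
      have e : π' (inclusion hJM ⟨w, T.W_le hw⟩) * π' m = π' m * π' (inclusion hJM ⟨w, T.W_le hw⟩) :=
        mem_centralizer_iff.1 hx _ ⟨⟨w, T.W_le hw⟩, mem_subgroupOf.2 hw, rfl⟩
      have e2 : π' (inclusion hJM ⟨w, T.W_le hw⟩) = π' (m * inclusion hJM ⟨w, T.W_le hw⟩ * m⁻¹) := by
        rw [map_mul, map_mul, map_inv, ← e, mul_inv_cancel_right]
      obtain ⟨g, hg, e'⟩ := hπ _ _ (congrArg Subtype.val e2)
      have e'' : (m : G) * w * (m : G)⁻¹ = w * g := e'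
      have h1 := T.eq_of_mul hg (T.mem_W.1 hw).2.symm (T.pow_four hw.1)
        (T.pow_four (T.S.norm hmz hw.1)) e''
      rw [e'', h1, mul_one]
    obtain ⟨g, h', p, hm, hg, hz', hy', hp, hact⟩ := T.exists_form hmz hmy
    have hgY : g ∈ zpowers y := by
      rcases hg with e | e | e <;> rw [e]
      exacts [one_mem _, mem_zpowers y, mul_mem (mem_zpowers y) (mem_zpowers y)]
    have hgz : g * z = z * g := by
      obtain ⟨k, rfl⟩ := hgY; exact ((show Commute y z from T.h1.comm).zpow_left k).eq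
    have hfixW : ∀ v, InW v → wfun p v = v := by
      intro v hv
      obtain ⟨w, hw, rfl⟩ := T.S.hsurj v
      have hw' : w ∈ T.W := ⟨hw, hv⟩
      have hgw : Commute g w := by
        obtain ⟨k, rfl⟩ := hgY; exact (show Commute y w from (T.mem_W.1 hw').2).zpow_left k
      have : h' * w * h'⁻¹ = w := by
        have e := hcw w hw'
        rw [hm] at e
        calc h' * w * h'⁻¹ = g⁻¹ * (g * h' * w * (g * h')⁻¹) * g := by group
          _ = g⁻¹ * (w * g) := by rw [e, mul_assoc]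
          _ = w := by rw [← hgw.eq, inv_mul_cancel_left]
      rw [← hact, T.S.act_phi hz' hw, this]
    have hp1 := stab_trivial p hp hfixW
    have hQ' : h' ∈ T.W := T.mem_W.2 ⟨T.S.mem_of_act_id hz' fun v => by rw [hact, hp1.apply]; rfl, hy'.symm⟩
    refine ⟨⟨h', T.W_le hQ'⟩, mem_subgroupOf.2 hQ', ?_⟩
    have hk : m * (inclusion hJM ⟨h', T.W_le hQ'⟩)⁻¹ ∈ π'.ker := by
      rw [hkerM, mem_subgroupOf]
      show (m : G) * h'⁻¹ ∈ zpowers y
      rw [hm, mul_inv_cancel_right]; exact hgY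
    rw [MonoidHom.mem_ker, map_mul, map_inv, mul_inv_eq_one] at hk
    exact hk.symm
  have hcore : Cfsg.pCore 2 ↥CX = QX := by
    refine le_antisymm (fun x hx => ?_) (Amalgam.le_pCore hQXn hQXp)
    obtain ⟨m, rfl⟩ := lift x
    obtain ⟨a, ha⟩ := (Comp.isPGroup_pCore (p := 2) (G := ↥CX)) ⟨π' m, hx⟩
    have hmz := mem_centralizer_singleton_iff.1 m.2.2
    obtain ⟨g, h', p, hm, hg, hz', hy', hp, hact⟩ := T.exists_form hmz (hcy ⟨m, m.2.1⟩)
    have hgY : g ∈ zpowers y := by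
      rcases hg with e | e | e <;> rw [e]
      exacts [one_mem _, mem_zpowers y, mul_mem (mem_zpowers y) (mem_zpowers y)]
    have hh'M : h' ∈ M := ⟨mem_centralizer_singleton_iff.2 hy', mem_centralizer_singleton_iff.2 hz'⟩
    have hx' : π' ⟨h', hh'M⟩ = π' m := by
      have hk : m * (⟨h', hh'M⟩ : ↥M)⁻¹ ∈ π'.ker := by
        rw [hkerM, mem_subgroupOf]
        show (m : G) * h'⁻¹ ∈ zpowers y
        rw [hm, mul_inv_cancel_right]; exact hgY
      rw [MonoidHom.mem_ker, map_mul, map_inv, mul_inv_eq_one] at hk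
      exact hk.symm
    have key : ∀ {w : List (ℕ × ℕ)} {r : G}, Rot z Q φ w r → r * y = y * r → r ∈ J → wfun w v0 = v0 →
        SameMap (p ++ w) (w ++ p) := by
      intro w r hr hry hrJ hwv
      have hc : h' * r * h'⁻¹ ∈ J := by
        refine T.cube_mem (mul_comm_z (mul_comm_z hz' hr.comm) (inv_comm_z hz'))
          (((show Commute h' y from hy').mul_left (show Commute r y from hry)).mul_left
            (show Commute h' y from hy').inv_left).eq (cube_conj hr.cube) ?_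
        rw [T.S.act_mul (mul_comm_z hz' hr.comm) (inv_comm_z hz'), T.S.act_mul hz' hr.comm]
        have hv : act Q φ h'⁻¹ v0 = v0 := by
          conv_lhs => rw [← (stab_fix p hp).1, ← hact, T.S.act_inv_left hz']
        rw [hv, hr.act_eq, hwv, hact, (stab_fix p hp).1]
      have hcc : h' * r * h'⁻¹ * r⁻¹ ∈ J := mul_mem hc (inv_mem hrJ)
      have hP : ι ⟨_, hcc⟩ ∈ Cfsg.pCore 2 ↥CX := by
        have e : ι ⟨_, hcc⟩ = π' ⟨h', hh'M⟩ * (π' ⟨r, hJM hrJ⟩ * (π' ⟨h', hh'M⟩)⁻¹ * (π' ⟨r, hJM hrJ⟩)⁻¹) := by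
          rw [← map_inv, ← map_inv, ← map_mul, ← map_mul, ← map_mul]
          exact congrArg π' (Subtype.ext (by simp [mul_assoc]))
        rw [e]
        haveI : (Cfsg.pCore 2 ↥CX).Normal := by infer_instance
        rw [hx']
        exact mul_mem hx (Normal.conj_mem inferInstance _ (inv_mem hx) _)
      obtain ⟨b, hb⟩ := (Comp.isPGroup_pCore (p := 2) (G := ↥CX)) ⟨_, hP⟩
      have hb' : ι (⟨_, hcc⟩ ^ (2 ^ b)) = ι 1 := by
        rw [map_pow, map_one]; exact congrArg Subtype.val hb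
      have hW := T.mem_W_of_pow hcc (congrArg Subtype.val (hι hb'))
      intro i _
      rw [wfun_append, wfun_append, ← hr.act_eq, ← hr.act_eq, ← hact, ← hact, ← T.S.act_mul hz' hr.comm,
        ← T.S.act_mul hr.comm hz',
        show h' * r = (h' * r * h'⁻¹ * r⁻¹) * (r * h') by group,
        act_mul_left T.S (T.mem_W.1 hW).1 (mul_comm_z hr.comm hz')]
    obtain ⟨r, hr, hpr⟩ := stab_comm_nine p hp
      (key T.h2 T.c12.symm (mem_sup_left (mem_sup_right (mem_zpowers y2))) (nine_fix r2 (by decide)))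
      (key T.h3 T.c13.symm (mem_sup_right (mem_sup_right (mem_zpowers y3))) (nine_fix r3 (by decide)))
    have hJ := T.mem_of_nine hz' hy' hr fun v => by rw [hact, hpr.apply]
    refine htwo _ ?_ a (congrArg Subtype.val ha)
    rw [hrange, ← hx']
    exact ⟨⟨h', hJ⟩, rfl⟩
  haveI := hQXn
  have hF : Cfsg.generalizedFittingSubgroup ↥CX = QX := by
    rw [← hcore, Comp.generalizedFitting_eq_pCore_iff, hcore]; exact hcentQ
  have hmap : ∀ w : ↥C, π w ∈ QX.map CX.subtype → (w : G) ^ 4 = 1 → (w : G) ∈ T.W := by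
    rintro w ⟨_, ⟨j, hj, rfl⟩, e⟩ hw4
    obtain ⟨g, hg, e'⟩ := hπ ⟨j, (hJM j.2).1⟩ w e
    have := T.eq_of_mul hg (hcy ⟨j, (hJM j.2).1⟩) (T.pow_four (show (j : G) ∈ Q from (mem_subgroupOf.1 hj).1))
      hw4 e'
    rw [e', this, mul_one]
    exact mem_subgroupOf.1 hj
  have hinQX : ∀ w (hw : w ∈ T.W), π ⟨w, (hJM (T.W_le hw)).1⟩ ∈ QX.map CX.subtype := fun w hw =>
    ⟨ι ⟨w, T.W_le hw⟩, ⟨_, mem_subgroupOf.2 hw, rfl⟩, rfl⟩
  have hnwc : ∃ g : ↥C ⧸ (zpowers y).subgroupOf C, (∃ hq : g * zX * g⁻¹ ∈ CX,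
      (⟨g * zX * g⁻¹, hq⟩ : ↥CX) ∈ QX) ∧ g * zX * g⁻¹ ≠ zX := by
    obtain ⟨u, hu, eu⟩ := T.S.hsurj SuzType.e1
    have huW : u ∈ T.W := ⟨hu, eu ▸ planes_noncomm.2.2.2.2.2.2.1⟩
    have hu1 : u ≠ 1 := fun e => base_facts.2.2.2.2.2.2.2.2.2.2.1 (by rw [← eu, e, T.S.phi_one])
    have huz : u ≠ z := fun e => base_facts.2.2.2.2.2.2.2.2.2.2.1 (by rw [← eu, e, T.S.hz])
    obtain ⟨n, hny, hnu⟩ := exists_fusion T.S hfus T.h1 hu (T.S.invol_of_sing hu (eu ▸ base_facts.1)) hu1 huz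
      (T.mem_W.1 huW).2
    refine ⟨π ⟨n, mem_centralizer_singleton_iff.2 hny⟩, ?_, ?_⟩
    · have e : π ⟨n, mem_centralizer_singleton_iff.2 hny⟩ * zX * (π ⟨n, mem_centralizer_singleton_iff.2 hny⟩)⁻¹ =
          π ⟨u, (hJM (T.W_le huW)).1⟩ := by
        rw [← map_inv, ← map_mul, ← map_mul]; exact congrArg π (Subtype.ext hnu)
      obtain ⟨x, hx, ex⟩ := hinQX u huW
      refine ⟨e ▸ ex ▸ x.2, ?_⟩
      rwa [show (⟨_, _⟩ : ↥CX) = x from Subtype.ext (e.trans ex.symm)]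
    · rw [← map_inv, ← map_mul, ← map_mul]
      intro e
      obtain ⟨g, hg, e'⟩ := hπ ⟨z, hzC⟩ _ e.symm
      have e'' : n * z * n⁻¹ = z * g := e'
      rw [hnu] at e''
      have := T.eq_of_mul hg (hcy ⟨z, hzC⟩) hz4 (T.pow_four hu) e''
      rw [this, mul_one] at e''
      exact huz e''
  have hQQg : ∀ g, g * zX * g⁻¹ ∈ QX.map CX.subtype → g * zX * g⁻¹ ≠ zX →
      Nat.card ↥(QX.map CX.subtype ⊓ (QX.map CX.subtype).map (MulAut.conj g).toMonoidHom) = 4 := by
    intro g hg hne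
    obtain ⟨⟨n, hn⟩, rfl⟩ := QuotientGroup.mk'_surjective _ g
    have hny : Commute n y := mem_centralizer_singleton_iff.1 hn
    set nC : ↥C := ⟨n, hn⟩ with hnC
    have hu4 : (n * z * n⁻¹) ^ 4 = 1 := by rw [conj_pow, hz4]; group
    have hu : n * z * n⁻¹ ∈ T.W := hmap (nC * ⟨z, hzC⟩ * nC⁻¹) (by
      rw [map_mul, map_mul, map_inv]; exact hg) hu4
    have hunz : n * z * n⁻¹ ≠ z := fun e => hne (by
      show π nC * π ⟨z, hzC⟩ * (π nC)⁻¹ = π ⟨z, hzC⟩
      rw [← map_inv, ← map_mul, ← map_mul]; exact congrArg π (Subtype.ext e))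
    obtain ⟨ψ, ψ', P⟩ := exists_pair T.S hu.1 hunz
    set u := n * z * n⁻¹ with hudef
    have huu : u * u = 1 := by
      rw [hudef, show n * z * n⁻¹ * (n * z * n⁻¹) = n * (z * z) * n⁻¹ by group, T.S.zz]; group
    have hzW : z ∈ T.W := T.Q2_le T.zQ2
    have hzQn : z ∈ Q.map (MulAut.conj n).toMonoidHom := T.S.pack.mem_conj hu.1
    have hinv : ∀ {w : G} (hwW : w ∈ T.W), (w ∈ Q.map (MulAut.conj n).toMonoidHom) →
        π ⟨w, mem_centralizer_singleton_iff.2 (T.mem_W.1 hwW).2.symm⟩ ∈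
          (QX.map CX.subtype).map (MulAut.conj (π nC)).toMonoidHom := by
      intro w hw hwn
      obtain ⟨q, hq, e⟩ := hwn
      simp only [MulEquiv.coe_toMonoidHom, MulAut.conj_apply] at e
      have hqW : q ∈ T.W := T.mem_W.2 ⟨hq, by
        have hqe : q = n⁻¹ * w * n := by rw [← e]; group
        rw [hqe]
        exact ((hny.inv_left.symm.mul_right (T.mem_W.1 hw).2).mul_right hny.symm).eq⟩
      refine ⟨_, hinQX q hqW, ?_⟩
      simp only [MulEquiv.coe_toMonoidHom, MulAut.conj_apply]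
      rw [← map_inv, ← map_mul, ← map_mul]
      exact congrArg π (Subtype.ext e)
    have huQn : u ∈ Q.map (MulAut.conj n).toMonoidHom := ⟨z, T.S.zQ, rfl⟩
    let zC : ↥C := ⟨z, hzC⟩
    let uC : ↥C := ⟨u, mem_centralizer_singleton_iff.2 (T.mem_W.1 hu).2.symm⟩
    have hset : ((QX.map CX.subtype ⊓ (QX.map CX.subtype).map (MulAut.conj (π nC)).toMonoidHom :
        Subgroup _) : Set (↥C ⧸ (zpowers y).subgroupOf C)) =
        ↑({1, π zC, π uC, π (zC * uC)} : Finset (↥C ⧸ (zpowers y).subgroupOf C)) := by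
      ext x
      simp only [coe_inf, Set.mem_inter_iff, SetLike.mem_coe, Finset.coe_insert, Finset.coe_singleton,
        Set.mem_insert_iff, Set.mem_singleton_iff]
      constructor
      · rintro ⟨⟨_, ⟨j, hj, rfl⟩, rfl⟩, x', ⟨_, ⟨j', hj', rfl⟩, rfl⟩, e⟩
        simp only [MulEquiv.coe_toMonoidHom, MulAut.conj_apply] at e
        let jC : ↥C := ⟨j, (hJM j.2).1⟩
        let jC' : ↥C := ⟨j', (hJM j'.2).1⟩
        have e' : π (nC * jC' * nC⁻¹) = π jC := by
          rw [map_mul, map_mul, map_inv]; exact e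
        obtain ⟨g, hg', e''⟩ := hπ _ _ e'
        have hg1 := T.eq_of_mul hg' (hcy (nC * jC' * nC⁻¹)) (by
          show (n * (j' : G) * n⁻¹) ^ 4 = 1
          rw [conj_pow, T.pow_four (mem_subgroupOf.1 hj').1]; group) (T.pow_four (mem_subgroupOf.1 hj).1) e''
        rw [hg1, mul_one] at e''
        have hjn : (j : G) ∈ Q.map (MulAut.conj n).toMonoidHom :=
          ⟨j', (mem_subgroupOf.1 hj').1, e''.symm⟩
        show π jC = 1 ∨ π jC = π zC ∨ π jC = π uC ∨ π jC = π (zC * uC)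
        rcases P.inter (mem_subgroupOf.1 hj).1 hjn with h | h | h | h
        · exact Or.inl (by rw [show jC = 1 from Subtype.ext h, map_one])
        · exact Or.inr (Or.inl (by rw [show jC = zC from Subtype.ext h]))
        · exact Or.inr (Or.inr (Or.inl (by rw [show jC = uC from Subtype.ext h])))
        · exact Or.inr (Or.inr (Or.inr (by rw [show jC = zC * uC from Subtype.ext h])))
      · rintro (rfl | rfl | rfl | rfl)
        · exact ⟨one_mem _, one_mem _⟩
        · exact ⟨hinQX z hzW, hinv hzW hzQn⟩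
        · exact ⟨hinQX u hu, hinv hu huQn⟩
        · exact ⟨hinQX (z * u) (mul_mem hzW hu), hinv (mul_mem hzW hu) (mul_mem hzQn huQn)⟩
    show Nat.card ↥((QX.map CX.subtype ⊓ (QX.map CX.subtype).map (MulAut.conj (π nC)).toMonoidHom :
      Subgroup _) : Set (↥C ⧸ (zpowers y).subgroupOf C)) = 4
    rw [hset, Nat.card_coe_set_eq, Set.ncard_coe_finset]
    have hne' : ∀ a b : ↥C, (a : G) ^ 4 = 1 → (b : G) ^ 4 = 1 → (a : G) ≠ b → π a ≠ π b := by
      intro a b ha hb hab e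
      obtain ⟨g, hg, e'⟩ := hπ a b e
      exact hab (by rw [e', T.eq_of_mul hg (hcy a) ha hb e', mul_one])
    have hzu4 : (z * u) ^ 4 = 1 := T.pow_four (mul_mem T.S.zQ hu.1)
    have hu1 : u ≠ 1 := fun e => T.S.zne (conj_eq_one_iff.1 e)
    have hzu1 : z * u ≠ 1 := fun e => hunz (by
      rw [eq_inv_of_mul_eq_one_right e, T.S.zinv])
    rw [← map_one π, Finset.card_insert_of_notMem, Finset.card_insert_of_notMem,
      Finset.card_insert_of_notMem, Finset.card_singleton]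
    · simp only [Finset.mem_singleton]
      exact hne' uC (zC * uC) hu4 hzu4 fun e => T.S.zne (mul_eq_right.1 e.symm)
    · simp only [Finset.mem_insert, Finset.mem_singleton, not_or]
      exact ⟨hne' zC uC hz4 hu4 fun e => hunz e.symm,
        hne' zC (zC * uC) hz4 hzu4 fun e => hu1 (mul_eq_left.1 e.symm)⟩
    · simp only [Finset.mem_insert, Finset.mem_singleton, not_or]
      exact ⟨hne' 1 zC (one_pow 4) hz4 fun e => T.S.zne e.symm, hne' 1 uC (one_pow 4) hu4 fun e => hu1 e.symm,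
        hne' 1 (zC * uC) (one_pow 4) hzu4 fun e => hzu1 e.symm⟩
  have hH : Nat.card ↥CX = 2 ^ 7 * 3 ^ 2 := by rw [hcard]; norm_num
  obtain ⟨f, Φ, hq⟩ := U43.exists_hframe hzX H1X H2X hodd hn1 hn2 (i1.symm.trans e1) (i2.symm.trans e2) hmeet
    QX hQX hF hnwc hH hQQg
  have hne : ∃ g, g * zX * g⁻¹ ∈ U43.qSub f ∧ g * zX * g⁻¹ ≠ zX := by
    obtain ⟨g, ⟨hg, hgQ⟩, hne⟩ := hnwc
    exact ⟨g, hq ▸ ⟨_, hgQ, rfl⟩, hne⟩
  obtain ⟨f', hR⟩ := U43.Local.exists_rels_of Φ hne (by rw [hq]; exact hQQg)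
    fun _ Φ' hM => U43.Local.relCom_eq_one Φ' hM
  exact ⟨f', hR, hzX, hcard, U43.isPGroup_of_hyp hQX hF⟩

end Std

end CfsgLib.InvChar.SuzY
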