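import Cfsg.Agent.Lib.InvChar.SuzY.Basic
import Mathlib.GroupTheory.GroupAction.Quotient

/-!
The stabiliser in the centraliser of `z` of the pair `v0`, `w0`: the centraliser is transitive on the pairs
spanning anisotropic planes, and the stabiliser induces exactly the maps of the words `stabWords`.
-/

set_option autoImplicit false
set_option linter.unusedSectionVars false

namespace CfsgLib.InvChar.SuzY

open Subgroup CfsgLib.InvChar.SuzType

variable {G : Type*} [Group G] [Finite G] {z : G} {Q : Subgroup G} {φ : G → V} (S : Data z Q φ)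
include S

theorem exists_step {u m : V} (h : Step u m) : ∃ k : G, k * z = z * k ∧ act Q φ k u = m := by
  obtain ⟨hu, hm, hum, c, hc, hcu, hcc⟩ := h
  obtain ⟨k, hk, hk'⟩ := S.hrefl (u + m) c (by rw [qf_add, hu, hm, hum]; decide) hc hcc
  refine ⟨k, hk, ?_⟩
  rw [S.act_eq hk (f := fun y => rf (u + m) (rf c y)) hk', show rf c u = u from if_neg (by rw [hcu]; decide),
    show rf (u + m) u = u + (u + m) from if_pos (by rw [bf_add_left, bf_self, bf_symm m, hum, zero_add]),
    ← add_assoc, v_self, zero_add]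

theorem exists_step' {u m : V} (h : Step' u m) :
    ∃ k : G, k * z = z * k ∧ act Q φ k v0 = v0 ∧ act Q φ k u = m := by
  obtain ⟨hu, hm, hum, hv, c, hc, hcu, hcv, hcc⟩ := h
  obtain ⟨k, hk, hk'⟩ := S.hrefl (u + m) c (by rw [qf_add, hu, hm, hum]; decide) hc hcc
  refine ⟨k, hk, ?_, ?_⟩
  · rw [S.act_eq hk (f := fun y => rf (u + m) (rf c y)) hk', show rf c v0 = v0 from if_neg (by rw [hcv]; decide),
      show rf (u + m) v0 = v0 from if_neg (by rw [hv]; decide)]
  · rw [S.act_eq hk (f := fun y => rf (u + m) (rf c y)) hk', show rf c u = u from if_neg (by rw [hcu]; decide),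
      show rf (u + m) u = u + (u + m) from if_pos (by rw [bf_add_left, bf_self, bf_symm m, hum, zero_add]),
      ← add_assoc, v_self, zero_add]

theorem exists_to_v0 {a : V} (ha : qf a = 1) : ∃ k : G, k * z = z * k ∧ act Q φ k a = v0 := by
  by_cases h : a = v0
  · exact ⟨1, by simp, by rw [S.act_of_mem Q.one_mem, h]⟩
  obtain ⟨m, hm, hm'⟩ := chain_step a ha h
  obtain ⟨k, hk, e⟩ := exists_step S hm
  rcases hm' with rfl | hm'
  · exact ⟨k, hk, e⟩
  obtain ⟨k', hk', e'⟩ := exists_step S hm'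
  exact ⟨k' * k, mul_comm_z hk' hk, by rw [S.act_mul hk' hk, e, e']⟩

theorem exists_to_w0 {b : V} (hb : qf b = 1) (hv : bf v0 b = 1) :
    ∃ k : G, k * z = z * k ∧ act Q φ k v0 = v0 ∧ act Q φ k b = w0 := by
  by_cases h : b = w0
  · exact ⟨1, by simp, S.act_of_mem Q.one_mem _, by rw [S.act_of_mem Q.one_mem, h]⟩
  obtain ⟨m, hm, hm'⟩ := chain_step' b hb hv h
  obtain ⟨k, hk, ev, e⟩ := exists_step' S hm
  rcases hm' with rfl | hm' | ⟨m', hm', hm''⟩
  · exact ⟨k, hk, ev, e⟩
  · obtain ⟨k', hk', ev', e'⟩ := exists_step' S hm'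
    exact ⟨k' * k, mul_comm_z hk' hk, by rw [S.act_mul hk' hk, ev, ev'], by rw [S.act_mul hk' hk, e, e']⟩
  · obtain ⟨k', hk', ev', e'⟩ := exists_step' S hm'
    obtain ⟨k₂, hk₂, ev₂, e₂⟩ := exists_step' S hm''
    have hkk := mul_comm_z hk' hk
    exact ⟨k₂ * (k' * k), mul_comm_z hk₂ hkk,
      by rw [S.act_mul hk₂ hkk, S.act_mul hk' hk, ev, ev', ev₂],
      by rw [S.act_mul hk₂ hkk, S.act_mul hk' hk, e, e', e₂]⟩

/-- The centraliser of `z` is transitive on pairs spanning anisotropic planes. -/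
theorem exists_to_pair {a b : V} (ha : qf a = 1) (hb : qf b = 1) (hab : bf a b = 1) :
    ∃ k : G, k * z = z * k ∧ act Q φ k a = v0 ∧ act Q φ k b = w0 := by
  obtain ⟨k, hk, e⟩ := exists_to_v0 S ha
  obtain ⟨k', hk', ev, e'⟩ := exists_to_w0 S (b := act Q φ k b) (by rw [S.act_qf hk, hb])
    (by rw [← e, S.act_bf hk, hab])
  exact ⟨k' * k, mul_comm_z hk' hk, by rw [S.act_mul hk' hk, e, ev], by rw [S.act_mul hk' hk, e']⟩

/-- An element fixing `v0` and `w0` induces one of the listed maps. -/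
theorem exists_stab_word {h : G} (hh : h * z = z * h) (hv : act Q φ h v0 = v0) (hw : act Q φ h w0 = w0) :
    ∃ p ∈ stabWords, ∀ x, act Q φ h x = wfun p x := by
  classical
  let P := S.perm.range
  let St := MulAction.stabilizer P ((v0, w0) : V × V)
  have horb : MulAction.orbit P ((v0, w0) : V × V) =
      ↑(Finset.univ.filter fun p : V × V => qf p.1 = 1 ∧ qf p.2 = 1 ∧ bf p.1 p.2 = 1) := by
    ext ⟨a, b⟩
    simp only [Finset.coe_filter, Finset.mem_univ, true_and, Set.mem_ofPred_eq]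
    constructor
    · rintro ⟨⟨σ, k, rfl⟩, e⟩
      have hk := mem_centralizer_singleton_iff.1 k.2
      change (act Q φ (k : G) v0, act Q φ (k : G) w0) = (a, b) at e
      obtain ⟨rfl, rfl⟩ := Prod.mk.injEq .. ▸ e
      exact ⟨by rw [S.act_qf hk]; exact base_facts.2.2.2.2.2.2.1,
        by rw [S.act_qf hk]; exact base_facts.2.2.2.2.2.2.2.1,
        by rw [S.act_bf hk]; exact base_facts.2.2.2.2.2.2.2.2.1⟩
    · rintro ⟨ha, hb, hab⟩
      obtain ⟨k, hk, e1, e2⟩ := exists_to_pair S ha hb hab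
      have hk' : k⁻¹ ∈ centralizer ({z} : Set G) := mem_centralizer_singleton_iff.2 (inv_comm_z hk)
      refine ⟨⟨S.perm ⟨k⁻¹, hk'⟩, ⟨_, rfl⟩⟩, ?_⟩
      show (act Q φ k⁻¹ v0, act Q φ k⁻¹ w0) = (a, b)
      rw [← e1, ← e2, S.act_inv_left hk, S.act_inv_left hk]
  have hcard : Nat.card St = 36 := by
    have h1 := Subgroup.card_mul_index St
    rw [MulAction.index_stabilizer, horb, Set.ncard_coe_finset, count_pairs, S.card_range] at h1
    omega
  have hmem : ∀ i : Fin stabWords.length,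
      ∃ σ : ↥St, ∀ x, ((σ : P) : Equiv.Perm V) x = wfun stabWords[i.1] x := by
    intro i
    have hp : stabWords[i.1] ∈ stabWords := List.getElem_mem _
    obtain ⟨k, hk, hk'⟩ := S.exists_word _ (good_stab _ hp)
    refine ⟨⟨⟨S.perm ⟨k, mem_centralizer_singleton_iff.2 hk⟩, ⟨_, rfl⟩⟩, ?_⟩, hk'⟩
    show (act Q φ k v0, act Q φ k w0) = (v0, w0)
    rw [hk', hk', (stab_fix _ hp).1, (stab_fix _ hp).2]
  choose F hF using hmem
  have hinj : Function.Injective F := fun i j e => by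
    have hs : SameMap stabWords[i.1] stabWords[j.1] := fun k _ => by rw [← hF, ← hF, e]
    have hpw := List.pairwise_iff_getElem.1 stab_distinct
    rcases lt_trichotomy i.1 j.1 with h1 | h1 | h1
    · exact absurd hs (hpw _ _ i.2 j.2 h1)
    · exact Fin.ext h1
    · exact absurd (fun k hk => (hs k hk).symm) (hpw _ _ j.2 i.2 h1)
  have hb := hinj.bijective_of_nat_card_le (by rw [hcard, Nat.card_fin, stab_length])
  obtain ⟨i, hi⟩ := hb.2 ⟨⟨S.perm ⟨h, mem_centralizer_singleton_iff.2 hh⟩, ⟨_, rfl⟩⟩, by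
    show (act Q φ h v0, act Q φ h w0) = (v0, w0)
    rw [hv, hw]⟩
  refine ⟨_, List.getElem_mem i.2, fun x => ?_⟩
  rw [← hF i, hi]
  rfl

end CfsgLib.InvChar.SuzY
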