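import Cfsg.Agent.Lib.InvChar.SuzType.Space

/-!
Words in pairs of reflections for the stabiliser of an anisotropic plane of the elliptic quadratic space of
dimension six over the field with two elements, and the finite facts on them.
-/

set_option autoImplicit false
set_option synthInstance.maxSize 4096
set_option synthInstance.maxHeartbeats 200000

namespace CfsgLib.InvChar.SuzY

open CfsgLib.InvChar.SuzType

/-- Rotation of the plane of `v0`, `w0`. -/
def r1 : List (ℕ × ℕ) := [(16, 32)]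
/-- Rotation of the plane of `code 3`, `code 13`. -/
def r2 : List (ℕ × ℕ) := [(3, 13)]
/-- Rotation of the plane of `code 12`, `code 7`. -/
def r3 : List (ℕ × ℕ) := [(12, 7)]
/-- Inverting the first two rotations. -/
def wInv : List (ℕ × ℕ) := [(16, 34), (3, 33)]
/-- Exchanging the first two rotations. -/
def wSwap : List (ℕ × ℕ) := [(21, 36), (18, 40)]

/-- The stabiliser of `v0` and `w0`. -/
def stabWords : List (List (ℕ × ℕ)) := [
  [],
  [(3, 13)],
  [(3, 14)],
  [(7, 11)],
  [(7, 12)],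
  [(7, 11), (3, 13)],
  [(7, 11), (3, 14)],
  [(7, 12), (3, 13)],
  [(7, 12), (3, 14)],
  [(7, 18), (3, 17)],
  [(11, 18), (3, 17)],
  [(12, 22), (3, 21)],
  [(13, 21), (7, 18)],
  [(13, 24), (12, 20)],
  [(13, 25), (11, 18)],
  [(14, 22), (7, 17)],
  [(14, 24), (12, 20)],
  [(14, 26), (11, 17)],
  [(21, 33), (17, 36), (16, 32)],
  [(22, 34), (18, 36), (16, 32)],
  [(25, 33), (17, 40), (16, 32)],
  [(26, 34), (18, 40), (16, 32)],
  [(31, 37), (21, 42), (16, 32)],
  [(31, 38), (22, 41), (16, 32)],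
  [(21, 33), (17, 36), (16, 32), (3, 13)],
  [(21, 33), (17, 36), (16, 32), (3, 14)],
  [(22, 34), (18, 36), (16, 32), (3, 13)],
  [(22, 34), (18, 36), (16, 32), (3, 14)],
  [(25, 33), (17, 40), (16, 32), (3, 13)],
  [(25, 33), (17, 40), (16, 32), (3, 14)],
  [(26, 34), (18, 40), (16, 32), (3, 13)],
  [(26, 34), (18, 40), (16, 32), (3, 14)],
  [(31, 37), (21, 42), (16, 32), (3, 13)],
  [(31, 37), (21, 42), (16, 32), (3, 14)],
  [(31, 38), (22, 41), (16, 32), (3, 13)],
  [(31, 38), (22, 41), (16, 32), (3, 14)]]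

/-- The rotations of the second and third planes. -/
def nineWords : List (List (ℕ × ℕ)) :=
  [[], r2, r2 ++ r2].flatMap fun a => [[], r3, r3 ++ r3].map fun b => a ++ b

/-- The stabiliser of the first rotation. -/
def centWords : List (List (ℕ × ℕ)) :=
  [[], r1, r1 ++ r1].flatMap fun a => stabWords.map fun b => a ++ b

/-- Equality of the maps of two words on a basis. -/
def SameMap (w w' : List (ℕ × ℕ)) : Prop := ∀ i < 6, wfun w (code (2 ^ i)) = wfun w' (code (2 ^ i))

instance (w w' : List (ℕ × ℕ)) : Decidable (SameMap w w') := by unfold SameMap; infer_instance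

theorem SameMap.apply {w w' : List (ℕ × ℕ)} (h : SameMap w w') (x : V) : wfun w x = wfun w' x :=
  ext_basis (wfun_add w) (wfun_add w') h x

theorem wfun_append : ∀ (w w' : List (ℕ × ℕ)) (x : V), wfun (w ++ w') x = wfun w (wfun w' x)
  | [], _, _ => rfl
  | p :: r, w', x => by
    show rf _ (rf _ (wfun (r ++ w') x)) = rf _ (rf _ (wfun r (wfun w' x)))
    rw [wfun_append r w' x]

/-- The plane of `v0`, `w0`. -/
def InP1 (x : V) : Prop := x = 0 ∨ x = v0 ∨ x = w0 ∨ x = v0 + w0

/-- The second plane. -/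
def InP2 (x : V) : Prop := x = 0 ∨ x = code 3 ∨ x = code 13 ∨ x = code 14

/-- The third plane. -/
def InP3 (x : V) : Prop := x = 0 ∨ x = code 12 ∨ x = code 7 ∨ x = code 11

/-- The space orthogonal to the first plane. -/
def InW (x : V) : Prop := bf x v0 = 0 ∧ bf x w0 = 0

instance (x : V) : Decidable (InP1 x) := by unfold InP1; infer_instance
instance (x : V) : Decidable (InP2 x) := by unfold InP2; infer_instance
instance (x : V) : Decidable (InP3 x) := by unfold InP3; infer_instance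
instance (x : V) : Decidable (InW x) := by unfold InW; infer_instance

theorem good_rot : GoodWord r1 ∧ GoodWord r2 ∧ GoodWord r3 ∧ GoodWord wInv ∧ GoodWord wSwap := by
  decide +kernel

theorem good_stab : ∀ p ∈ stabWords, GoodWord p := by decide +kernel

theorem stab_fix : ∀ p ∈ stabWords, wfun p v0 = v0 ∧ wfun p w0 = w0 := by decide +kernel

theorem stab_distinct : stabWords.Pairwise (fun p p' => ¬ SameMap p p') := by decide +kernel

theorem stab_length : stabWords.length = 36 := rfl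

theorem cent_distinct : centWords.Pairwise (fun p p' => ¬ SameMap p p') := by decide +kernel

theorem cent_length : centWords.length = 108 := rfl

theorem rot_cube : SameMap (r1 ++ r1 ++ r1) [] ∧ SameMap (r2 ++ r2 ++ r2) [] ∧ SameMap (r3 ++ r3 ++ r3) [] := by
  decide +kernel

theorem rot_comm : SameMap (r1 ++ r2) (r2 ++ r1) ∧ SameMap (r1 ++ r3) (r3 ++ r1) ∧
    SameMap (r2 ++ r3) (r3 ++ r2) := by decide +kernel

theorem stab_comm : ∀ p ∈ stabWords, SameMap (r1 ++ p) (p ++ r1) := by decide +kernel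

theorem inv_rot : SameMap (wInv ++ r1) (r1 ++ r1 ++ wInv) ∧ SameMap (wInv ++ r2) (r2 ++ r2 ++ wInv) := by
  decide +kernel

theorem swap_rot : SameMap (wSwap ++ r1) (r2 ++ wSwap) ∧ SameMap (wSwap ++ r2) (r1 ++ wSwap) := by
  decide +kernel

theorem rot_v0 : wfun r1 v0 = w0 ∧ wfun r1 w0 = v0 + w0 := by decide +kernel

theorem rot_fix_iff : ∀ x : V, wfun r1 x = x ↔ InW x := by decide +kernel

theorem rot_moved : ∀ x : V, InP1 (wfun r1 x + x) := by decide +kernel

theorem rot2_moved : ∀ x : V, InP2 (wfun r2 x + x) := by decide +kernel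

theorem rot_planes : ∀ x : V, (InP2 x → InW x ∧ wfun r3 x = x ∧ InP2 (wfun r2 x)) ∧
    (InP3 x → InW x ∧ wfun r2 x = x ∧ InP3 (wfun r3 x)) ∧ (InP2 x → InP3 x → x = 0) := by
  decide +kernel

theorem planes_orth : ∀ x y : V, InP2 x → InP3 y → bf x y = 0 := by decide +kernel

theorem planes_span : ∀ x : V, InW x → ∃ a b : V, InP2 a ∧ InP3 b ∧ x = a + b := by decide +kernel

theorem planes_add : ∀ x y : V, (InP2 x → InP2 y → InP2 (x + y)) ∧
    (InP3 x → InP3 y → InP3 (x + y)) ∧ (InW x → InW y → InW (x + y)) := by decide +kernel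

theorem planes_noncomm : InP2 (code 3) ∧ InP2 (code 13) ∧ bf (code 3) (code 13) = 1 ∧ InP3 (code 12) ∧
    InP3 (code 7) ∧ bf (code 12) (code 7) = 1 ∧ InW e1 ∧ ¬ InW v0 ∧ ¬ InW w0 := by
  decide +kernel

theorem rot_fix_plane : ∀ x : V, (InP2 x → wfun r2 x = x → x = 0) ∧ (InP3 x → wfun r3 x = x → x = 0) := by
  decide +kernel

theorem stab_sq_nine : ∀ p ∈ stabWords, ∃ r ∈ nineWords, SameMap (p ++ p) r := by decide +kernel

theorem stab_comm_nine : ∀ p ∈ stabWords, SameMap (p ++ r2) (r2 ++ p) → SameMap (p ++ r3) (r3 ++ p) →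
    ∃ r ∈ nineWords, SameMap p r := by decide +kernel

theorem stab_trivial : ∀ p ∈ stabWords, (∀ x : V, InW x → wfun p x = x) → SameMap p [] := by
  decide +kernel

theorem nine_nine : ∀ r ∈ nineWords, ∀ r' ∈ nineWords, ∃ r'' ∈ nineWords, SameMap (r ++ r') r'' := by
  decide +kernel

theorem nine_stab : ∀ r ∈ nineWords, ∃ p ∈ stabWords, SameMap r p := by decide +kernel

/-- One pair of reflections moves `u` to `m`. -/
def Step (u m : V) : Prop :=
  qf u = 1 ∧ qf m = 1 ∧ bf u m = 1 ∧ ∃ c : V, qf c = 1 ∧ bf c u = 0 ∧ bf (u + m) c = 1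

/-- The same, fixing `v0`. -/
def Step' (u m : V) : Prop :=
  qf u = 1 ∧ qf m = 1 ∧ bf u m = 1 ∧ bf (u + m) v0 = 0 ∧
    ∃ c : V, qf c = 1 ∧ bf c u = 0 ∧ bf c v0 = 0 ∧ bf (u + m) c = 1

instance (u m : V) : Decidable (Step u m) := by unfold Step; infer_instance
instance (u m : V) : Decidable (Step' u m) := by unfold Step'; infer_instance

theorem chain_step : ∀ a : V, qf a = 1 → a ≠ v0 →
    ∃ m : V, Step a m ∧ (m = v0 ∨ Step m v0) := by decide +kernel

theorem chain_step' : ∀ b : V, qf b = 1 → bf v0 b = 1 → b ≠ w0 →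
    ∃ m : V, Step' b m ∧ (m = w0 ∨ Step' m w0 ∨ ∃ m' : V, Step' m m' ∧ Step' m' w0) := by
  decide +kernel

theorem count_pairs : (Finset.univ.filter fun p : V × V =>
    qf p.1 = 1 ∧ qf p.2 = 1 ∧ bf p.1 p.2 = 1).card = 720 := by decide +kernel

theorem count_singular : (Finset.univ.filter fun x : V => qf x = 0 ∧ x ≠ 0).card = 27 := by
  decide +kernel

end CfsgLib.InvChar.SuzY
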